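import Cfsg.Agent.Lib.RealClass.Lift
import Cfsg.Agent.Lib.Invol.BaerSuzuki
import Cfsg.Agent.S3933
import Mathlib.Data.Nat.GCD.Basic

/-!
# A group acting on an elementary abelian `2`-group with `2`-closed point stabilisers and
Sylow-transitive centralisers of real elements
-/

set_option autoImplicit false
set_option linter.style.haveILetI false
set_option linter.unusedSectionVars false

namespace Cfsg.Lib.RealClass

open Subgroup
open scoped Pointwise

universe u w

theorem dvd_of_two_pow_sub_one_dvd {a b : ℕ} (h : 2 ^ a - 1 ∣ 2 ^ b - 1) : a ∣ b := by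
  rcases Nat.eq_zero_or_pos a with rfl | ha
  · simp only [pow_zero, Nat.sub_self, zero_dvd_iff] at h
    have : 2 ^ b = 1 := by have := Nat.one_le_two_pow (n := b); omega
    exact (Nat.pow_eq_one.mp this).resolve_left (by norm_num) ▸ dvd_rfl
  have h1 : (2 ^ b - 1) % (2 ^ a - 1) = 2 ^ (b % a) - 1 := Nat.pow_sub_one_mod_pow_sub_one 2 a b
  rw [Nat.mod_eq_zero_of_dvd h] at h1
  have h2 : 2 ^ (b % a) = 1 := by have := Nat.one_le_two_pow (n := b % a); omega
  exact Nat.dvd_of_mod_eq_zero ((Nat.pow_eq_one.mp h2).resolve_left (by norm_num))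

variable {Γ : Type u} [Group Γ] [Finite Γ]

/-- A real element of odd prime order. -/
def RealP (d : Γ) : Prop := (orderOf d).Prime ∧ orderOf d ≠ 2 ∧ IsConj d d⁻¹

theorem RealP.ne_one {d : Γ} (h : RealP d) : d ≠ 1 := fun hd => by
  have := h.1; rw [hd, orderOf_one] at this; exact Nat.not_prime_one this

theorem RealP.odd {d : Γ} (h : RealP d) : Odd (orderOf d) := h.1.odd_of_ne_two h.2.1

theorem exists_realP {x : Γ} (hx : IsConj x x⁻¹) (hx1 : x ≠ 1) (ho : Odd (orderOf x)) :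
    ∃ n : ℕ, RealP (x ^ n) := exists_prime_real hx hx1 ho

variable {V : Type w} [AddCommGroup V] [DistribMulAction Γ V]

/-- The vectors fixed by a subgroup. -/
def fixV (H : Subgroup Γ) : AddSubgroup V where
  carrier := {v | ∀ h ∈ H, h • v = v}
  zero_mem' := fun _ _ => smul_zero _
  add_mem' := fun ha hb h hh => by rw [smul_add, ha h hh, hb h hh]
  neg_mem' := fun ha h hh => by rw [smul_neg, ha h hh]

theorem mem_fixV {H : Subgroup Γ} {v : V} : v ∈ fixV H ↔ ∀ h ∈ H, h • v = v := Iff.rfl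

/-- The vectors fixed by an element. -/
def fixE (g : Γ) : AddSubgroup V where
  carrier := {v | g • v = v}
  zero_mem' := smul_zero _
  add_mem' := fun {a b} (ha : g • a = a) (hb : g • b = b) => show g • (a + b) = a + b by rw [smul_add, ha, hb]
  neg_mem' := fun {a} (ha : g • a = a) => show g • -a = -a by rw [smul_neg, ha]

theorem mem_fixE {g : Γ} {v : V} : v ∈ fixE g ↔ g • v = v := Iff.rfl

theorem smul_pow_fixed {g : Γ} {v : V} (h : g • v = v) : ∀ n : ℕ, g ^ n • v = v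
  | 0 => by rw [pow_zero, one_smul]
  | n + 1 => by rw [pow_succ, mul_smul, h, smul_pow_fixed h n]

variable (Γ V) in
/-- The hypotheses on the action. -/
structure RealData : Prop where
  exp2 : ∀ v : V, v + v = 0
  ne : ∃ v : V, v ≠ 0
  cop : ∀ d : Γ, RealP d → ∀ P : Sylow 2 Γ,
    (ncl d).Coprime (normalizer ((P : Subgroup Γ) : Set Γ)).index
  stab : ∀ v : V, v ≠ 0 → ∃ P : Sylow 2 Γ, v ∈ fixV (P : Subgroup Γ) ∧
    ∀ g : Γ, g • v = v → g ∈ normalizer ((P : Subgroup Γ) : Set Γ)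

/-- An element of `2`-power order normalising a Sylow `2`-subgroup lies in it. -/
theorem mem_of_mem_normalizer {c : Γ} {k : ℕ} (hc : c ^ 2 ^ k = 1) {P : Sylow 2 Γ}
    (h : c ∈ normalizer ((P : Subgroup Γ) : Set Γ)) : c ∈ P := by
  haveI : Fact (Nat.Prime 2) := ⟨Nat.prime_two⟩
  set N := normalizer ((P : Subgroup Γ) : Set Γ)
  haveI : ((P.subtype le_normalizer : Sylow 2 N) : Subgroup N).Normal := by
    rw [Sylow.coe_subtype]; exact normal_in_normalizer
  obtain ⟨R, hR⟩ := exists_sylow_mem (p := 2) (c := (⟨c, h⟩ : N)) (k := k) (Subtype.ext (by simpa using hc))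
  haveI := Sylow.unique_of_normal (P.subtype le_normalizer) inferInstance
  rw [Subsingleton.elim R (P.subtype le_normalizer)] at hR
  exact hR

theorem eq_of_le_normalizer {P Q : Sylow 2 Γ}
    (h : (Q : Subgroup Γ) ≤ normalizer ((P : Subgroup Γ) : Set Γ)) : Q = P := by
  refine Sylow.ext (Q.3 P.isPGroup' fun x hx => ?_).symm
  obtain ⟨k, hk⟩ := Q.isPGroup' ⟨x, hx⟩
  exact mem_of_mem_normalizer (k := k) (by simpa using congrArg Subtype.val hk) (h hx)

theorem smul_mem_fixV {P : Sylow 2 Γ} {v : V} (hv : v ∈ fixV (P : Subgroup Γ)) (g : Γ) :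
    g • v ∈ fixV ((g • P : Sylow 2 Γ) : Subgroup Γ) := by
  intro h hh
  rw [Sylow.coe_subgroup_smul] at hh
  obtain ⟨y, hy, rfl⟩ := hh
  show (MulAut.conj g y) • g • v = g • v
  rw [MulAut.conj_apply, ← mul_smul, inv_mul_cancel_right, mul_smul, hv y hy]

theorem smul_mem_fixV_of_normalizer {P : Sylow 2 Γ} {v : V} (hv : v ∈ fixV (P : Subgroup Γ)) {g : Γ}
    (hg : g ∈ normalizer ((P : Subgroup Γ) : Set Γ)) : g • v ∈ fixV (P : Subgroup Γ) := by
  have := smul_mem_fixV hv g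
  rwa [Sylow.smul_eq_iff_mem_normalizer.mpr hg] at this

theorem one_lt_card_sylow (hns : ¬ Group.IsSolvable Γ) (P : Sylow 2 Γ) :
    ¬ (P : Subgroup Γ).Normal := fun h => hns (by haveI := h; exact isSolvable_of_sylow_two_normal P)

theorem exists_involution (hns : ¬ Group.IsSolvable Γ) : ∃ u : Γ, orderOf u = 2 := by
  haveI : Fact (Nat.Prime 2) := ⟨Nat.prime_two⟩
  refine exists_prime_orderOf_dvd_card' 2 ?_
  by_contra h
  exact hns (Cfsg.Agent.S0205.result (Nat.odd_iff.mpr (Nat.two_dvd_ne_zero.mp h)))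

namespace RealData

variable (D : RealData Γ V)
include D

theorem neg_eq (v : V) : -v = v := neg_eq_of_add_eq_zero_left (D.exp2 v)

theorem sub_eq (v w : V) : v - w = v + w := by rw [sub_eq_add_neg, D.neg_eq]

theorem eq_of_add {v w : V} (h : v + w = 0) : v = w := by
  rw [eq_neg_of_add_eq_zero_left h, D.neg_eq]

theorem exists_sylow_trans {d : Γ} (hd : RealP d) (P Q : Sylow 2 Γ) :
    ∃ c ∈ centralizer ({d} : Set Γ), c • P = Q := by
  haveI : Fact (Nat.Prime 2) := ⟨Nat.prime_two⟩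
  obtain ⟨g, rfl⟩ := MulAction.exists_smul_eq Γ P Q
  obtain ⟨n, hn, s, hs, rfl⟩ := Cfsg.Agent.S3933.exists_mul_of_coprime_index
    (centralizer ({d} : Set Γ)) (normalizer ((P : Subgroup Γ) : Set Γ)) (D.cop d hd P) g
  exact ⟨n, hn, by rw [mul_smul, Sylow.smul_eq_iff_mem_normalizer.mpr hs]⟩

theorem not_mem_normalizer {d : Γ} (hd : RealP d) (P : Sylow 2 Γ) :
    d ∉ normalizer ((P : Subgroup Γ) : Set Γ) := by
  haveI : Fact (Nat.Prime 2) := ⟨Nat.prime_two⟩
  intro hdP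
  obtain ⟨c, k, hck, hc⟩ := exists_two_inverter hd.2.2
  obtain ⟨Q, hcQ⟩ := exists_sylow_mem (p := 2) hck
  obtain ⟨a, ha, hPQ⟩ := D.exists_sylow_trans hd P Q
  have hdQ : d ∈ normalizer ((Q : Subgroup Γ) : Set Γ) := Sylow.smul_eq_iff_mem_normalizer.mp (by
    rw [← hPQ, ← mul_smul,
      ← mem_centralizer_singleton_iff.mp ha, mul_smul, Sylow.smul_eq_iff_mem_normalizer.mpr hdP])
  have h2 : d⁻¹ * d⁻¹ ∈ (Q : Subgroup Γ) := by
    have h1 : c * (d * c⁻¹ * d⁻¹) ∈ (Q : Subgroup Γ) :=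
      mul_mem hcQ ((mem_normalizer_iff.mp hdQ _).mp (inv_mem hcQ))
    rwa [← mul_assoc, ← mul_assoc, hc] at h1
  obtain ⟨i, hi⟩ := Q.isPGroup' ⟨_, h2⟩
  have h3 : orderOf (d⁻¹ * d⁻¹) = 1 := by
    refine Nat.eq_one_of_dvd_coprimes ((Nat.coprime_two_left.mpr hd.odd).pow_left i)
      (orderOf_dvd_of_pow_eq_one (by simpa using congrArg Subtype.val hi)) ?_
    rw [← sq, ← orderOf_inv d]
    exact orderOf_pow_dvd 2
  exact sq_ne_one_of_odd (inv_ne_one.mpr hd.ne_one) (by rw [orderOf_inv]; exact hd.odd)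
    (by rw [sq]; exact orderOf_eq_one_iff.mp h3)

theorem eq_one_of_real_mem_normalizer {x : Γ} (hx : IsConj x x⁻¹) (ho : Odd (orderOf x)) {P : Sylow 2 Γ}
    (h : x ∈ normalizer ((P : Subgroup Γ) : Set Γ)) : x = 1 := by
  by_contra hx1
  obtain ⟨n, hn⟩ := exists_realP hx hx1 ho
  exact D.not_mem_normalizer hn P (pow_mem h n)

theorem point_unique {v : V} (hv : v ≠ 0) {P Q : Sylow 2 Γ} (hP : v ∈ fixV (P : Subgroup Γ))
    (hQ : v ∈ fixV (Q : Subgroup Γ)) : P = Q := by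
  obtain ⟨R, -, hR⟩ := D.stab v hv
  rw [eq_of_le_normalizer (P := R) (Q := P) fun x hx => hR x (hP x hx),
    eq_of_le_normalizer (P := R) (Q := Q) fun x hx => hR x (hQ x hx)]

theorem stab_le {v : V} (hv : v ≠ 0) {P : Sylow 2 Γ} (hP : v ∈ fixV (P : Subgroup Γ)) {g : Γ}
    (hg : g • v = v) : g ∈ normalizer ((P : Subgroup Γ) : Set Γ) := by
  obtain ⟨R, hRv, hR⟩ := D.stab v hv
  rw [D.point_unique hv hP hRv]
  exact hR g hg

theorem eq_zero_of_fixed {x : Γ} (hx : IsConj x x⁻¹) (hx1 : x ≠ 1) (ho : Odd (orderOf x)) {v : V}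
    (h : x • v = v) : v = 0 := by
  by_contra hv
  obtain ⟨R, -, hR⟩ := D.stab v hv
  exact hx1 (D.eq_one_of_real_mem_normalizer hx ho (hR x h))

theorem exists_mem_fixV (P : Sylow 2 Γ) : ∃ v ∈ fixV (V := V) (P : Subgroup Γ), v ≠ 0 := by
  haveI : Fact (Nat.Prime 2) := ⟨Nat.prime_two⟩
  obtain ⟨v, hv⟩ := D.ne
  obtain ⟨Q, hQ, -⟩ := D.stab v hv
  obtain ⟨g, rfl⟩ := MulAction.exists_smul_eq Γ Q P
  exact ⟨g • v, smul_mem_fixV hQ g, fun h => hv ((smul_eq_zero_iff_eq g).mp h)⟩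

theorem card_fixV_eq [Finite V] (P Q : Sylow 2 Γ) :
    Nat.card (fixV (V := V) (P : Subgroup Γ)) = Nat.card (fixV (V := V) (Q : Subgroup Γ)) := by
  haveI : Fact (Nat.Prime 2) := ⟨Nat.prime_two⟩
  obtain ⟨g, rfl⟩ := MulAction.exists_smul_eq Γ P Q
  refine Nat.card_congr
    { toFun := fun v => ⟨g • (v : V), smul_mem_fixV v.2 g⟩
      invFun := fun v => ⟨g⁻¹ • (v : V), by
        have := smul_mem_fixV v.2 g⁻¹
        rwa [inv_smul_smul] at this⟩
      left_inv := fun v => Subtype.ext (inv_smul_smul g (v : V))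
      right_inv := fun v => Subtype.ext (smul_inv_smul g (v : V)) }

theorem exists_card_eq [Finite V] (W : AddSubgroup V) : ∃ i : ℕ, Nat.card W = 2 ^ i := by
  haveI : Fact (Nat.Prime 2) := ⟨Nat.prime_two⟩
  refine (IsPGroup.iff_card (p := 2) (G := Multiplicative W)).mp fun v => ⟨1, ?_⟩
  rw [pow_one, sq]
  exact Subtype.ext (D.exp2 _)

/-- Involutions fixing a point are in it. -/
theorem mem_point {u : Γ} (hu : orderOf u = 2) {v : V} (hv : v ≠ 0) {P : Sylow 2 Γ}
    (hP : v ∈ fixV (P : Subgroup Γ)) (h : u • v = v) : u ∈ P :=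
  mem_of_mem_normalizer (k := 1) (by rw [pow_one, ← hu, pow_orderOf_eq_one]) (D.stab_le hv hP h)

/-- Vectors of a subgroup, sorted by their points. -/
theorem card_sub_one_eq [Finite V] [Fintype (Sylow 2 Γ)] (W : AddSubgroup V) :
    Nat.card W - 1 = ∑ P : Sylow 2 Γ, (Nat.card ↥(W ⊓ fixV (P : Subgroup Γ)) - 1) := by
  classical
  have hne : ∀ X : AddSubgroup V, Nat.card {v : X // v ≠ 0} = Nat.card X - 1 := by
    intro X
    haveI := Fintype.ofFinite X
    rw [Nat.card_eq_fintype_card, Nat.card_eq_fintype_card, Fintype.card_subtype_compl,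
      Fintype.card_subtype_eq]
  refine (hne W).symm.trans (Eq.trans ?_ (Finset.sum_congr rfl fun P _ => hne (W ⊓ fixV (P : Subgroup Γ))))
  rw [← Nat.card_sigma]
  refine (Nat.card_eq_of_bijective (fun x : Σ P : Sylow 2 Γ, {v : ↥(W ⊓ fixV (P : Subgroup Γ)) // v ≠ 0} =>
    (⟨⟨(x.2.1 : V), x.2.1.2.1⟩, fun h => x.2.2 (Subtype.ext (congrArg Subtype.val h :))⟩ :
      {v : W // v ≠ 0})) ⟨?_, ?_⟩).symm
  · rintro ⟨P, ⟨v, hv⟩, hv0⟩ ⟨Q, ⟨v', hv'⟩, hv'0⟩ h
    simp only [Subtype.mk.injEq] at h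
    subst h
    obtain rfl := D.point_unique (fun h => hv0 (Subtype.ext h)) hv.2 hv'.2
    rfl
  · rintro ⟨⟨v, hv⟩, hv0⟩
    obtain ⟨P, hP, -⟩ := D.stab v fun h => hv0 (Subtype.ext h)
    exact ⟨⟨P, ⟨v, hv, hP⟩, fun h => hv0 (Subtype.ext (congrArg Subtype.val h :))⟩, rfl⟩

variable [FaithfulSMul Γ V]

/-- A normal `2`-subgroup is trivial. -/
theorem normal_two_eq_bot {N : Subgroup Γ} (hN : N.Normal) (h : IsPGroup 2 N) : N = ⊥ := by
  haveI : Fact (Nat.Prime 2) := ⟨Nat.prime_two⟩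
  refine eq_bot_iff.mpr fun x hx => mem_bot.mpr (eq_of_smul_eq_smul fun v : V => ?_)
  rw [one_smul]
  rcases eq_or_ne v 0 with rfl | hv
  · exact smul_zero x
  obtain ⟨P, hP, -⟩ := D.stab v hv
  exact hP x ((Cfsg.Lib.Core.le_pCore' hN h).trans (Cfsg.Lib.Core.pCore_le_sylow P) hx)

theorem exists_inverted {u : Γ} (hu : orderOf u = 2) :
    ∃ x : Γ, x ≠ 1 ∧ Odd (orderOf x) ∧ u * x * u⁻¹ = x⁻¹ :=
  Cfsg.Lib.Invol.exists_inverted_odd hu fun N hN hN2 huN => by
    rw [D.normal_two_eq_bot hN hN2, mem_bot] at huN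
    rw [huN, orderOf_one] at hu
    exact absurd hu (by norm_num)

theorem exists_realP' (hns : ¬ Group.IsSolvable Γ) : ∃ d : Γ, RealP d := by
  obtain ⟨u, hu⟩ := exists_involution hns
  obtain ⟨x, hx1, hxo, hx⟩ := D.exists_inverted hu
  obtain ⟨n, hn⟩ := exists_realP (isReal_of_inverted hx) hx1 hxo
  exact ⟨_, hn⟩

theorem card_fixE_sq [Finite V] {u : Γ} (hu : orderOf u = 2) :
    Nat.card (fixE (V := V) u) ^ 2 = Nat.card V := by
  have huu : ∀ v : V, u • u • v = v := fun v => by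
    rw [← mul_smul, ← sq, ← hu, pow_orderOf_eq_one, one_smul]
  obtain ⟨x, hx1, hxo, hx⟩ := D.exists_inverted hu
  apply le_antisymm
  · rw [sq, ← Nat.card_prod]
    refine Nat.card_le_card_of_injective (fun p : fixE (V := V) u × fixE (V := V) u => (p.1 : V) + x • (p.2 : V))
      fun p q h => ?_
    have hd : ((p.1 : V) + q.1) + x • ((p.2 : V) + q.2) = 0 := by
      rw [smul_add, add_add_add_comm, ← show (p.1 : V) + x • (p.2 : V) = q.1 + x • (q.2 : V) from h,
        D.exp2]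
    have hab := D.eq_of_add hd
    set b := (p.2 : V) + q.2 with hb
    have hbF : u • b = b := by rw [hb, smul_add, mem_fixE.mp p.2.2, mem_fixE.mp q.2.2]
    have h1 : u • x • b = x • b := by
      rw [← hab, smul_add, mem_fixE.mp p.1.2, mem_fixE.mp q.1.2]
    have h2 : x⁻¹ • b = x • b := by
      rw [← hx, mul_smul, mul_smul, inv_smul_eq_iff.mpr hbF.symm, h1]
    have h3 : (x * x) • b = b := by rw [mul_smul, ← h2, smul_inv_smul]
    obtain ⟨m, hm⟩ : ∃ m : ℕ, (x * x) ^ m = x :=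
      (sq x ▸ exists_pow_eq_self_of_coprime (Nat.coprime_two_left.mpr hxo) :)
    have hb0 : b = 0 := D.eq_zero_of_fixed (isReal_of_inverted hx) hx1 hxo
      (by rw [← hm]; exact smul_pow_fixed h3 m)
    rw [hb0, smul_zero] at hab
    exact Prod.ext (Subtype.ext (D.eq_of_add hab)) (Subtype.ext (D.eq_of_add hb0))
  · let φ : V →+ fixE (V := V) u :=
      AddMonoidHom.mk' (fun v => ⟨u • v + v, by rw [mem_fixE, smul_add, huu, add_comm]⟩)
        fun a b => Subtype.ext (by simp [smul_add, add_add_add_comm])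
    have hker : φ.ker ≤ fixE u := fun v hv => D.eq_of_add (congrArg Subtype.val hv :)
    rw [sq, ← φ.ker.card_mul_index, AddSubgroup.index_ker]
    exact Nat.mul_le_mul (AddSubgroup.card_le_of_le hker) (Nat.card_le_card_of_injective _ Subtype.val_injective)

/-- The numbers attached to the action. -/
theorem exists_params [Finite V] (hns : ¬ Group.IsSolvable Γ) : ∃ e f : ℕ, 1 ≤ f ∧ f ∣ e ∧ 1 ≤ e ∧
    Nat.card V = 2 ^ (2 * e) ∧ (∀ P : Sylow 2 Γ, Nat.card (fixV (V := V) (P : Subgroup Γ)) = 2 ^ f) ∧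
    (∀ u : Γ, orderOf u = 2 → Nat.card (fixE (V := V) u) = 2 ^ e) ∧
    Nat.card (Sylow 2 Γ) * (2 ^ f - 1) = 2 ^ (2 * e) - 1 := by
  classical
  haveI : Fact (Nat.Prime 2) := ⟨Nat.prime_two⟩
  haveI : Fintype (Sylow 2 Γ) := Fintype.ofFinite _
  obtain ⟨u, hu⟩ := exists_involution hns
  obtain ⟨e, he⟩ := D.exists_card_eq (fixE u)
  obtain ⟨P₀⟩ : Nonempty (Sylow 2 Γ) := inferInstance
  obtain ⟨f, hf⟩ := D.exists_card_eq (fixV (P₀ : Subgroup Γ))
  have hfP : ∀ P : Sylow 2 Γ, Nat.card (fixV (V := V) (P : Subgroup Γ)) = 2 ^ f := fun P =>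
    (D.card_fixV_eq P P₀).trans hf
  have hV : Nat.card V = 2 ^ (2 * e) := by rw [← D.card_fixE_sq hu, he, ← pow_mul, mul_comm]
  have hf1 : 1 ≤ f := by
    obtain ⟨v, hv, hv0⟩ := D.exists_mem_fixV P₀
    refine Nat.pos_of_ne_zero fun h0 => hv0 ?_
    rw [h0, pow_zero] at hf
    exact congrArg Subtype.val ((Nat.card_eq_one_iff_unique.mp hf).1.elim (⟨v, hv⟩ : fixV _) 0)
  have hfe : f ∣ e := by
    have h := D.card_sub_one_eq (fixE u)
    have hs : ∀ P : Sylow 2 Γ, Nat.card ↥(fixE (V := V) u ⊓ fixV (P : Subgroup Γ)) - 1 =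
        if u ∈ P then 2 ^ f - 1 else 0 := by
      intro P
      split_ifs with hP
      · rw [inf_eq_right.mpr fun v hv => hv u hP, hfP]
      · have : fixE (V := V) u ⊓ fixV (P : Subgroup Γ) = ⊥ := eq_bot_iff.mpr fun v hv => by
          by_contra hv0
          exact hP (D.mem_point hu hv0 hv.2 hv.1)
        rw [this, AddSubgroup.card_bot]
    rw [Finset.sum_congr rfl fun P _ => hs P, ← Finset.sum_filter, Finset.sum_const, smul_eq_mul, he] at h
    exact dvd_of_two_pow_sub_one_dvd (Dvd.intro_left _ h.symm)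
  have he1 : 1 ≤ e := by
    refine Nat.pos_of_ne_zero fun h0 => ?_
    obtain ⟨v, hv⟩ := D.ne
    rw [h0, mul_zero, pow_zero] at hV
    exact hv ((Nat.card_eq_one_iff_unique.mp hV).1.elim v 0)
  refine ⟨e, f, hf1, hfe, he1, hV, hfP, fun w hw => ?_, ?_⟩
  · have h := D.card_fixE_sq hw
    rw [hV, mul_comm, pow_mul] at h
    exact Nat.pow_left_injective two_ne_zero h
  · have h := D.card_sub_one_eq ⊤
    rw [AddSubgroup.card_top, hV] at h
    rw [h, Finset.sum_congr rfl fun P _ => by rw [top_inf_eq, hfP], Finset.sum_const, smul_eq_mul,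
      Finset.card_univ, Nat.card_eq_fintype_card]

end RealData

section Minimal

variable (hns : ¬ Group.IsSolvable Γ)
  (hmin : ∀ N : Subgroup Γ, N.Normal → N ≠ ⊤ → Group.IsSolvable N)
include hns hmin

theorem commutator_eq_top_of_minimal : commutator Γ = ⊤ := by
  by_contra h
  haveI := hmin _ (inferInstance : (commutator Γ).Normal) h
  haveI : Group.IsSolvable (Γ ⧸ commutator Γ) := Group.isSolvable_of_comm
    (G := Abelianization Γ) fun a b => mul_comm a b
  exact hns (Group.isSolvable_of_ker_le_range (commutator Γ).subtype (QuotientGroup.mk' (commutator Γ))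
    (by rw [QuotientGroup.ker_mk', Subgroup.range_subtype]))

theorem closure_two_eq_top : closure {c : Γ | ∃ k : ℕ, c ^ 2 ^ k = 1} = ⊤ := by
  haveI : Fact (Nat.Prime 2) := ⟨Nat.prime_two⟩
  set N := closure {c : Γ | ∃ k : ℕ, c ^ 2 ^ k = 1} with hN
  haveI : N.Normal := ⟨fun n hn g => by
    induction hn using Subgroup.closure_induction with
    | mem x hx => exact subset_closure (hx.imp fun k hk => by rw [conj_pow, hk, mul_one, mul_inv_cancel])
    | one => simp
    | mul x y _ _ hx hy => simpa [mul_assoc] using N.mul_mem hx hy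
    | inv x _ hx => simpa [mul_assoc] using N.inv_mem hx⟩
  by_contra h
  haveI := hmin N inferInstance h
  obtain ⟨P⟩ : Nonempty (Sylow 2 Γ) := inferInstance
  haveI : Group.IsSolvable (Γ ⧸ N) := Cfsg.Agent.S0205.result (by
    rw [← Subgroup.index_eq_card]
    refine Nat.odd_iff.mpr (Nat.two_dvd_ne_zero.mp fun h2 => P.not_dvd_index (h2.trans ?_))
    exact Subgroup.index_dvd_of_le fun x hx => subset_closure ((P.isPGroup' ⟨x, hx⟩).imp
      fun k hk => by simpa using congrArg Subtype.val hk))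
  exact hns (Group.isSolvable_of_ker_le_range N.subtype (QuotientGroup.mk' N)
    (by rw [QuotientGroup.ker_mk', Subgroup.range_subtype]))

end Minimal

end Cfsg.Lib.RealClass
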