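import Cfsg.Agent.Lib.RealClass.Singer
import Cfsg.Agent.Lib.Core.Cores
import Cfsg.Agent.Lib.PGroup.Elements
import Mathlib.GroupTheory.Nilpotent

/-!
# A proper normal subgroup contains no real element; Sylow normalisers are maximal
-/

set_option autoImplicit false
set_option linter.style.haveILetI false
set_option linter.unusedSectionVars false

namespace Cfsg.Lib.RealClass

open Subgroup
open scoped Pointwise commutatorElement

universe u w

variable {Γ : Type u} [Group Γ] [Finite Γ] {V : Type w} [AddCommGroup V] [Finite V]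
  [DistribMulAction Γ V] [FaithfulSMul Γ V]

theorem smul_sum_range_pow {g : Γ} {r : ℕ} (hg : g ^ r = 1) (v : V) :
    g • (∑ i ∈ Finset.range r, g ^ i • v) = ∑ i ∈ Finset.range r, g ^ i • v := by
  rw [Finset.smul_sum, Finset.sum_congr rfl fun i _ => by rw [← mul_smul, ← pow_succ']]
  have h := Finset.sum_range_succ' (fun i => g ^ i • v) r
  rw [Finset.sum_range_succ, hg, pow_zero] at h
  exact (add_right_cancel h).symm

namespace RealData

variable (D : RealData Γ V)
include D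

theorem odd_nsmul {m : ℕ} (hm : Odd m) (v : V) : m • v = v := by
  obtain ⟨j, rfl⟩ := hm
  rw [add_smul, mul_smul, two_nsmul, D.exp2, one_smul, zero_add]

/-- An abelian group of odd prime exponent acting without fixed vectors is cyclic. -/
theorem mem_zpowers_of_fixed_point_free {Y : Subgroup Γ} {r : ℕ} (hr : r.Prime) (hr2 : r ≠ 2)
    (hcomm : ∀ a ∈ Y, ∀ b ∈ Y, Commute a b) (hexp : ∀ a ∈ Y, a ^ r = 1)
    (hfpf : ∀ a ∈ Y, a ≠ 1 → ∀ v : V, a • v = v → v = 0) {y x : Γ} (hy : y ∈ Y) (hy1 : y ≠ 1)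
    (hx : x ∈ Y) : x ∈ zpowers y := by
  haveI : Fact r.Prime := ⟨hr⟩
  by_contra hxy
  obtain ⟨v, hv⟩ := D.ne
  have hyo : orderOf y = r := orderOf_eq_prime (hexp y hy) hy1
  have hzero : ∀ i ∈ Finset.range r, (∑ j ∈ Finset.range r, (x * y ^ i) ^ j • v) = 0 := by
    intro i _
    refine hfpf _ (mul_mem hx (pow_mem hy i)) (fun h => hxy ?_) _
      (smul_sum_range_pow (hexp _ (mul_mem hx (pow_mem hy i))) v)
    rw [eq_inv_of_mul_eq_one_left h]
    exact inv_mem (pow_mem (mem_zpowers y) i)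
  have hS := Finset.sum_eq_zero hzero
  rw [Finset.sum_comm, Finset.sum_congr rfl fun j _ => Finset.sum_congr rfl fun i _ => by
    rw [(hcomm x hx _ (pow_mem hy i)).mul_pow, mul_smul, ← pow_mul, mul_comm i j, pow_mul]] at hS
  rw [Finset.sum_eq_single 0 (fun j hj hj0 => ?_) (fun h => absurd (Finset.mem_range.mpr hr.pos) h)] at hS
  · simp only [pow_zero, one_pow, one_smul, Finset.sum_const, Finset.card_range] at hS
    exact hv (D.odd_nsmul (hr.odd_of_ne_two hr2) v ▸ hS)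
  · rw [← Finset.smul_sum]
    have h1 : y ^ j ≠ 1 := fun h => hj0 (Nat.eq_zero_of_dvd_of_lt (hyo ▸ orderOf_dvd_of_pow_eq_one h)
      (Finset.mem_range.mp hj))
    rw [hfpf _ (pow_mem hy j) h1 _ (smul_sum_range_pow (hexp _ (pow_mem hy j)) v), smul_zero]

theorem no_realP_in_normal (hns : ¬ Group.IsSolvable Γ)
    (hmin : ∀ N : Subgroup Γ, N.Normal → N ≠ ⊤ → Group.IsSolvable N) (hrig : Rigid Γ V)
    (R : Subgroup Γ) [R.Normal] (hR : R ≠ ⊤) {d : Γ} (hd : RealP d) : d ∉ R := by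
  classical
  haveI : Fact (Nat.Prime 2) := ⟨Nat.prime_two⟩
  intro hdR
  haveI := hmin R inferInstance hR
  have hnc : ¬ R ≤ center Γ := fun h => by
    obtain ⟨g, hg⟩ := isConj_iff.mp hd.2.2
    rw [mem_center_iff.mp (h hdR) g, mul_inv_cancel_right] at hg
    exact sq_ne_one_of_odd hd.ne_one hd.odd (by rw [sq]; exact eq_inv_iff_mul_eq_one.mp hg)
  -- a minimal noncentral normal subgroup below `R`
  obtain ⟨X, ⟨hXn, hXR, hXc⟩, hXmin⟩ := wellFounded_lt.has_min
    {X : Subgroup Γ | X.Normal ∧ X ≤ R ∧ ¬ X ≤ center Γ} ⟨R, inferInstance, le_rfl, hnc⟩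
  haveI := hXn
  haveI : Group.IsSolvable X :=
    Group.isSolvable_of_isSolvable_injective (f := Subgroup.inclusion hXR) (Subgroup.inclusion_injective hXR)
  have hXX : ⁅X, X⁆ ≤ center Γ := by
    by_contra h
    refine hXmin ⁅X, X⁆ ⟨inferInstance, (commutator_le_left X X).trans hXR, h⟩
      (lt_of_le_of_ne (commutator_le_left X X) fun he => ?_)
    haveI : Nontrivial X := by
      rw [Subgroup.nontrivial_iff_ne_bot]
      rintro rfl
      exact hXc bot_le
    refine (Group.IsSolvable.commutator_lt_top_of_nontrivial X).ne ?_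
    rw [← Subgroup.map_subtype_commutator] at he
    exact Subgroup.map_injective X.subtype_injective (he.trans (by rw [← MonoidHom.range_eq_map, Subgroup.range_subtype]))
  haveI : Group.IsNilpotent X := by
    refine Subgroup.isNilpotent_of_ker_le_center (Abelianization.of : X →* Abelianization X) ?_
    rw [Abelianization.ker_of]
    intro a ha
    refine mem_center_iff.mpr fun b => Subtype.ext ?_
    exact mem_center_iff.mp (hXX (X.map_subtype_commutator ▸ mem_map_of_mem X.subtype ha)) b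
  have hnormal : ∀ (p : ℕ) [Fact p.Prime] (P : Sylow p X), ((P : Subgroup X).map X.subtype).Normal := by
    intro p _ P
    haveI : (P : Subgroup X).Characteristic :=
      P.characteristic_of_normal (P.normal_of_normalizerCondition Group.normalizerCondition_of_isNilpotent)
    infer_instance
  have hXodd : ∀ x ∈ X, Odd (orderOf x) := by
    intro x hx
    obtain ⟨P⟩ : Nonempty (Sylow 2 X) := inferInstance
    have h1 := D.normal_two_eq_bot (hnormal 2 P) (P.isPGroup'.map _)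
    rw [(Subgroup.map_eq_bot_iff_of_injective _ X.subtype_injective)] at h1
    have h2 : ¬ 2 ∣ Nat.card X := fun h => by
      have h3 := P.dvd_card_of_dvd_card h
      rw [h1, Subgroup.card_bot] at h3
      omega
    exact (Nat.odd_iff.mpr (Nat.two_dvd_ne_zero.mp h2)).of_dvd_nat (Subgroup.orderOf_dvd_natCard _ hx)
  -- an element of `X` inverted by a `2`-element
  obtain ⟨c, k, hck, x, hx, hcx⟩ : ∃ c : Γ, ∃ k : ℕ, c ^ 2 ^ k = 1 ∧ ∃ x ∈ X, c * x * c⁻¹ ≠ x := by
    by_contra hcon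
    push Not at hcon
    refine hXc fun x hx => mem_center_iff.mpr fun g => ?_
    have hle : closure {c : Γ | ∃ k : ℕ, c ^ 2 ^ k = 1} ≤ centralizer ({x} : Set Γ) :=
      (closure_le _).mpr fun c ⟨k, hk⟩ =>
        mem_centralizer_singleton_iff.mpr (mul_inv_eq_iff_eq_mul.mp (hcon c k hk x hx))
    rw [closure_two_eq_top hns hmin] at hle
    exact mem_centralizer_singleton_iff.mp (hle (mem_top g))
  obtain ⟨c', -, hu1, hu⟩ := exists_inverted_of_not_commute hck hcx
  have huX : x⁻¹ * (c' * x * c'⁻¹) ∈ X := mul_mem (inv_mem hx) (hXn.conj_mem x hx c')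
  obtain ⟨n, hy⟩ := exists_realP (isReal_of_inverted hu) hu1 (hXodd _ huX)
  have hyX : (x⁻¹ * (c' * x * c'⁻¹)) ^ n ∈ X := pow_mem huX n
  generalize (x⁻¹ * (c' * x * c'⁻¹)) ^ n = y at hy hyX
  set r := orderOf y with hr
  haveI : Fact r.Prime := ⟨hy.1⟩
  have hrn : r ∣ Nat.card (Sylow 2 Γ) := by
    have hyp : IsPGroup r (zpowers y) := IsPGroup.of_card (n := 1) (by rw [Nat.card_zpowers, pow_one])
    have h := hyp.card_modEq_card_fixedPoints (Sylow 2 Γ)
    haveI : IsEmpty (MulAction.fixedPoints (zpowers y) (Sylow 2 Γ)) := ⟨fun P =>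
      D.not_mem_normalizer hy P.1 (Sylow.smul_eq_iff_mem_normalizer.mp (P.2 ⟨y, mem_zpowers y⟩))⟩
    rw [Nat.card_of_isEmpty (α := MulAction.fixedPoints (zpowers y) (Sylow 2 Γ))] at h
    exact Nat.modEq_zero_iff_dvd.mp h
  obtain ⟨T, hT⟩ := D.sylow_le_centralizer (p := r) hy hrn
  -- `y` is central in `X`
  have hycent : ∀ a ∈ X, Commute y a := by
    intro a ha
    suffices h : (⟨a, ha⟩ : X) ∈ centralizer ({⟨y, hyX⟩} : Set X) from
      (congrArg Subtype.val (mem_centralizer_singleton_iff.mp h)).symm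
    refine Cfsg.Lib.PGroup.mem_of_ordCompl_pow_mem fun q hq _ => ?_
    generalize hb : (⟨a, ha⟩ : X) ^ (orderOf (⟨a, ha⟩ : X) / q ^ (orderOf (⟨a, ha⟩ : X)).factorization q) = b
    have hbo : orderOf b = q ^ (orderOf (⟨a, ha⟩ : X)).factorization q := by
      rw [← hb]; exact Cfsg.Lib.PGroup.orderOf_ordCompl_pow hq
    rcases eq_or_ne q r with rfl | hqr
    · obtain ⟨P, hP⟩ := exists_sylow_mem (p := r) (c := b) (k := (orderOf (⟨a, ha⟩ : X)).factorization r)
        (by rw [← hbo, pow_orderOf_eq_one])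
      have h1 : (b : Γ) ∈ (T : Subgroup Γ) := (Cfsg.Lib.Core.le_pCore' (hnormal r P) (P.isPGroup'.map _)).trans
        (Cfsg.Lib.Core.pCore_le_sylow T) (mem_map_of_mem _ hP)
      exact mem_centralizer_singleton_iff.mpr (Subtype.ext (mem_centralizer_singleton_iff.mp (hT h1)))
    · refine mem_centralizer_singleton_iff.mpr (Cfsg.Lib.PGroup.commute_of_coprime_orderOf b ⟨y, hyX⟩ ?_).eq
      simp only [hbo, Subgroup.orderOf_mk]
      exact ((Nat.coprime_primes hq hy.1).mpr hqr).pow_left _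
  -- an elementary abelian normal subgroup containing `y`
  let Y : Subgroup Γ :=
    { carrier := {a | a ∈ X ∧ (∀ b ∈ X, Commute a b) ∧ a ^ r = 1}
      one_mem' := ⟨one_mem _, fun b _ => Commute.one_left b, one_pow _⟩
      mul_mem' := fun {a b} ⟨ha, ha', ha''⟩ ⟨hb, hb', hb''⟩ => ⟨mul_mem ha hb,
        fun z hz => (ha' z hz).mul_left (hb' z hz), by rw [(ha' b hb).mul_pow, ha'', hb'', mul_one]⟩
      inv_mem' := fun {a} ⟨ha, ha', ha''⟩ => ⟨inv_mem ha, fun z hz => (ha' z hz).inv_left,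
        by rw [inv_pow, ha'', inv_one]⟩ }
  have hyY : y ∈ Y := ⟨hyX, hycent, pow_orderOf_eq_one y⟩
  have hYn : Y.Normal := ⟨fun a ⟨ha, ha', ha''⟩ g => ⟨hXn.conj_mem a ha g, fun b hb => by
    have h1 := ha' (g⁻¹ * b * g) (by simpa using hXn.conj_mem b hb g⁻¹)
    have := congrArg (fun z => g * z * g⁻¹) h1.eq
    simpa [Commute, SemiconjBy, mul_assoc] using this, by rw [conj_pow, ha'']; simp⟩⟩
  have hYcomm : ∀ a ∈ Y, ∀ b ∈ Y, Commute a b := fun a ha b hb => ha.2.1 b hb.1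
  -- it has no fixed vectors
  let 𝓜 : Set (Subgroup Γ) := {A | A ≤ Y ∧ fixV (V := V) A ≠ ⊥ ∧
    ∀ B : Subgroup Γ, B ≤ Y → fixV (V := V) B ≠ ⊥ → A ≤ B → B ≤ A}
  have hfixconj : ∀ (A : Subgroup Γ) (g : Γ), fixV (V := V) A ≠ ⊥ → fixV (V := V) (MulAut.conj g • A) ≠ ⊥ := by
    intro A g h hbot
    refine h (AddSubgroup.eq_bot_of_card_eq _ ?_)
    rw [card_fixV_conj A g, hbot, AddSubgroup.card_bot]
  have hYconj : ∀ g : Γ, MulAut.conj g • Y = Y := fun g => Subgroup.Normal.conj_smul_eq_self g Y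
  have hconj : ∀ A ∈ 𝓜, ∀ g : Γ, MulAut.conj g • A ∈ 𝓜 := by
    rintro A ⟨hAY, hA, hAmax⟩ g
    refine ⟨(Subgroup.pointwise_smul_le_pointwise_smul_iff.mpr hAY).trans (hYconj g).le, hfixconj A g hA,
      fun B hBY hB hAB => ?_⟩
    have h1 : A ≤ (MulAut.conj g)⁻¹ • B := Subgroup.pointwise_smul_subset_iff.mp hAB
    have h2 := hAmax _ ((Subgroup.pointwise_smul_le_pointwise_smul_iff.mpr hBY).trans
      (by rw [← map_inv, hYconj])) (by rw [← map_inv]; exact hfixconj B g⁻¹ hB) h1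
    exact Subgroup.subset_pointwise_smul_iff.mpr h2
  have hproj : ∀ A ∈ 𝓜, ∃ π : V →+ V, (∀ v ∈ fixV (V := V) A, π v = v) ∧
      ∀ A' ∈ 𝓜, A' ≠ A → ∀ v ∈ fixV (V := V) A', π v = 0 := by
    rintro A ⟨hAY, hA, hAmax⟩
    haveI : Fintype A := Fintype.ofFinite A
    refine ⟨AddMonoidHom.mk' (fun v => ∑ a : A, (a : Γ) • v) (fun v v' => by
      simp only [smul_add, Finset.sum_add_distrib]), fun v hv => ?_, ?_⟩
    · show ∑ a : A, (a : Γ) • v = v
      rw [Finset.sum_congr rfl fun (a : A) _ => mem_fixV.mp hv (a : Γ) a.2, Finset.sum_const, Finset.card_univ,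
        ← Nat.card_eq_fintype_card]
      refine D.odd_nsmul ?_ v
      by_contra hev
      obtain ⟨a, ha⟩ := exists_prime_orderOf_dvd_card' (G := A) 2 (Nat.not_odd_iff_even.mp hev).two_dvd
      have := hXodd (a : Γ) (hAY a.2).1
      rw [Subgroup.orderOf_coe, ha] at this
      exact absurd this (by decide)
    · rintro A' ⟨hA'Y, hA', hA'max⟩ hne v hv
      show ∑ a : A, (a : Γ) • v = 0
      set s := ∑ a : A, (a : Γ) • v with hs
      by_contra hs0
      let St : Subgroup Γ := MulAction.stabilizer Γ s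
      have hAS : A ≤ St := fun b hb => by
        show b • s = s
        rw [hs, Finset.smul_sum]
        exact Fintype.sum_equiv (Equiv.mulLeft ⟨b, hb⟩) _ _ fun a => by rw [← mul_smul]; rfl
      have hA'S : A' ≤ St := fun b hb => by
        show b • s = s
        rw [hs, Finset.smul_sum]
        refine Finset.sum_congr rfl fun a _ => ?_
        rw [← mul_smul, (hYcomm b (hA'Y hb) a (hAY a.2)).eq, mul_smul, mem_fixV.mp hv b hb]
      have hsup : fixV (V := V) (A ⊔ A') ≠ ⊥ := fun hbot => hs0 ((AddSubgroup.mem_bot).mp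
        (hbot ▸ (fun b hb => sup_le hAS hA'S hb : s ∈ fixV (A ⊔ A'))))
      have h1 : A' ≤ A := le_sup_right.trans (hAmax _ (sup_le hAY hA'Y) hsup le_sup_left)
      exact hne (le_antisymm h1 (hA'max A hAY hA h1))
  have hfpf : ∀ a ∈ Y, a ≠ 1 → ∀ v : V, a • v = v → v = 0 := by
    intro a haY ha1 v hv
    by_contra hv0
    have hfa : fixV (V := V) (zpowers a) ≠ ⊥ := fun hbot => hv0 ((AddSubgroup.mem_bot).mp
      (hbot ▸ (fun b hb => (zpowers_le.mpr (show a ∈ MulAction.stabilizer Γ v from hv)) hb :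
        v ∈ fixV (zpowers a))))
    obtain ⟨A, ⟨hAY, hA, haA⟩, hAmax⟩ := wellFounded_gt.has_min
      {A : Subgroup Γ | A ≤ Y ∧ fixV (V := V) A ≠ ⊥ ∧ a ∈ A}
      ⟨zpowers a, zpowers_le.mpr haY, hfa, mem_zpowers a⟩
    have hA𝓜 : A ∈ 𝓜 := ⟨hAY, hA, fun B hBY hB hAB => by
      by_contra hBA
      exact hAmax B ⟨hBY, hB, hAB haA⟩ (lt_of_le_not_ge hAB hBA)⟩
    have htop := hrig 𝓜 hconj (fun A hA => hA.2.1) hproj A hA𝓜
    exact ha1 (eq_of_smul_eq_smul fun w : V => by
      rw [one_smul]; exact mem_fixV.mp (htop ▸ AddSubgroup.mem_top w) a haA)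
  have hcyc : ∀ g : Γ, g * y * g⁻¹ ∈ zpowers y := fun g =>
    D.mem_zpowers_of_fixed_point_free hy.1 hy.2.1 hYcomm (fun a ha => ha.2.2) hfpf hyY hy.ne_one
      (hYn.conj_mem y hyY g)
  have hcomm : commutator Γ ≤ centralizer ({y} : Set Γ) := by
    rw [_root_.commutator_def, Subgroup.commutator_le]
    intro g _ h _
    obtain ⟨i, hi⟩ := mem_zpowers_iff.mp (hcyc g)
    obtain ⟨j, hj⟩ := mem_zpowers_iff.mp (hcyc h)
    have h1 : g * h * y * (g * h)⁻¹ = h * g * y * (h * g)⁻¹ := by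
      calc g * h * y * (g * h)⁻¹ = g * (h * y * h⁻¹) * g⁻¹ := by simp [mul_assoc]
        _ = (y ^ i) ^ j := by rw [← hj, ← conj_zpow, hi]
        _ = (y ^ j) ^ i := by rw [← zpow_mul, mul_comm, zpow_mul]
        _ = h * (g * y * g⁻¹) * h⁻¹ := by rw [← hi, ← conj_zpow, hj]
        _ = h * g * y * (h * g)⁻¹ := by simp [mul_assoc]
    refine mem_centralizer_singleton_iff.mpr (mul_inv_eq_iff_eq_mul.mp ?_)
    calc ⁅g, h⁆ * y * ⁅g, h⁆⁻¹
        = g * h * ((h * g)⁻¹ * y * (h * g)) * (g * h)⁻¹ := by simp [commutatorElement_def, mul_assoc]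
      _ = y := by
        obtain ⟨l, hl⟩ := mem_zpowers_iff.mp (hcyc (h * g)⁻¹)
        rw [inv_inv] at hl
        rw [← hl, ← conj_zpow, h1, conj_zpow, hl]
        simp [mul_assoc]
  rw [commutator_eq_top_of_minimal hns hmin] at hcomm
  obtain ⟨g, hg⟩ := isConj_iff.mp hy.2.2
  rw [mem_centralizer_singleton_iff.mp (hcomm (mem_top g)), mul_inv_cancel_right] at hg
  exact sq_ne_one_of_odd hy.ne_one hy.odd (by rw [sq]; exact eq_inv_iff_mul_eq_one.mp hg)

/-- The Sylow normalisers are maximal. -/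
theorem normalizer_maximal (hns : ¬ Group.IsSolvable Γ)
    (hmin : ∀ N : Subgroup Γ, N.Normal → N ≠ ⊤ → Group.IsSolvable N) (hrig : Rigid Γ V)
    (P : Sylow 2 Γ) {M : Subgroup Γ} (hM : normalizer ((P : Subgroup Γ) : Set Γ) ≤ M) :
    M = normalizer ((P : Subgroup Γ) : Set Γ) ∨ M = ⊤ := by
  haveI : Fact (Nat.Prime 2) := ⟨Nat.prime_two⟩
  have hPM : (P : Subgroup Γ) ≤ M := le_normalizer.trans hM
  by_cases hn : ((P.subtype hPM : Sylow 2 M) : Subgroup M).Normal
  · refine Or.inl (le_antisymm ?_ hM)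
    rw [Sylow.coe_subtype] at hn
    exact (normal_subgroupOf_iff_le_normalizer hPM).mp hn
  refine Or.inr ?_
  obtain ⟨x, hx1, hxo, hx⟩ := Cfsg.Agent.S3861.exists_real_odd _ hn
  obtain ⟨n, hd⟩ := exists_realP (M.subtype.map_isConj hx) (fun h => hx1 (Subtype.ext h))
    (show Odd (orderOf (x : Γ)) by rwa [Subgroup.orderOf_coe])
  change RealP ((x : Γ) ^ n) at hd
  have hdM : (x : Γ) ^ n ∈ M := pow_mem x.2 n
  set d := (x : Γ) ^ n
  have hconj : ∀ g : Γ, g * d * g⁻¹ ∈ M := by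
    intro g
    obtain ⟨c, hc, s, hs, hcs⟩ := Cfsg.Agent.S3933.exists_mul_of_coprime_index
      (centralizer ({d} : Set Γ)) (normalizer ((P : Subgroup Γ) : Set Γ)) (D.cop d hd P) g⁻¹
    have hg : g = s⁻¹ * c⁻¹ := by rw [← mul_inv_rev, ← hcs, inv_inv]
    have hcd : c⁻¹ * d * c = d := by
      rw [mul_assoc, ← mem_centralizer_singleton_iff.mp hc, inv_mul_cancel_left]
    have : g * d * g⁻¹ = s⁻¹ * d * s := by
      rw [hg]
      conv_rhs => rw [← hcd]
      simp [mul_assoc]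
    rw [this]
    exact mul_mem (mul_mem (inv_mem (hM hs)) hdM) (hM hs)
  have hle : normalClosure ({d} : Set Γ) ≤ M := by
    refine (closure_le _).mpr fun z hz => ?_
    obtain ⟨b, hb, hbz⟩ := Group.mem_conjugatesOfSet_iff.mp hz
    obtain ⟨g, rfl⟩ := isConj_iff.mp hbz
    rw [Set.mem_singleton_iff.mp hb]
    exact hconj g
  by_contra hMtop
  exact D.no_realP_in_normal hns hmin hrig (normalClosure {d})
    (fun h => hMtop (le_antisymm le_top (h ▸ hle))) hd (subset_normalClosure rfl)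

end RealData

end Cfsg.Lib.RealClass
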