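import Cfsg.Agent.Lib.Perm.OddCyclicRegular

/-!
# Schur: a primitive group with a regular cyclic subgroup whose degree has two prime divisors is
doubly transitive
-/

set_option autoImplicit false
set_option linter.style.haveILetI false

namespace Cfsg.Lib.RealClass

open Subgroup

universe u

variable {α : Type u} [Finite α] {G : Subgroup (Equiv.Perm α)} {a : Equiv.Perm α}

set_option maxHeartbeats 2000000 in
/-- For each prime divisor `p` of the degree, an orbit of the stabiliser of a primitive group with a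
regular cyclic subgroup is a union of cosets of the subgroup of order `p` outside of it, and meets it. -/
theorem orbit_cosets {p : ℕ} [hp : Fact p.Prime] (ha : a ∈ G)
    (hreg : ∀ x y : α, ∃ i : ℤ, (a ^ i) x = y) (v₀ : α)
    (hprim : ∀ K : Subgroup (zpowers a), (∀ g ∈ G, ∀ d ∈ K, ∀ x : α,
      ∃ d' ∈ K, g ((d : Equiv.Perm α) x) = (d' : Equiv.Perm α) (g x)) → K = ⊥ ∨ K = ⊤)
    (hdvd : p ∣ Nat.card α) (hne : p ≠ Nat.card α) (c : zpowers a) (hc : c ≠ 1) :
    (∀ t z : zpowers a, (∃ h ∈ G, h v₀ = v₀ ∧ h ((c : Equiv.Perm α) v₀) = (t : Equiv.Perm α) v₀) →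
      t ^ p ≠ 1 → z ^ p = 1 →
      ∃ h ∈ G, h v₀ = v₀ ∧ h ((c : Equiv.Perm α) v₀) = ((t * z : zpowers a) : Equiv.Perm α) v₀) ∧
    (∃ t : zpowers a, t ^ p = 1 ∧ t ≠ 1 ∧
      ∃ h ∈ G, h v₀ = v₀ ∧ h ((c : Equiv.Perm α) v₀) = (t : Equiv.Perm α) v₀) := by
  classical
  revert c
  set P := zpowers a with hPdef
  intro c hc
  haveI : Fintype P := Fintype.ofFinite _
  haveI : Fintype α := Fintype.ofFinite α
  have hbij := Cfsg.Lib.Perm.OddCyclic.exists_param a hreg v₀
  let π : α → P := (Equiv.ofBijective _ hbij).symm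
  have hπv : ∀ x : α, (π x : Equiv.Perm α) v₀ = x := fun x => (Equiv.ofBijective _ hbij).apply_symm_apply x
  have hπc : ∀ c : P, π ((c : Equiv.Perm α) v₀) = c := fun c => (Equiv.ofBijective _ hbij).symm_apply_apply c
  have hPcard : Nat.card P = Nat.card α := Nat.card_eq_of_bijective _ hbij
  have hPG : ∀ c : P, (c : Equiv.Perm α) ∈ G := fun c => (zpowers_le.2 ha) c.2
  -- every invariant set of translations is trivial or generates
  let Inv : Set P → Prop := fun S => ∀ h ∈ G, h v₀ = v₀ → ∀ c ∈ S, π (h ((c : Equiv.Perm α) v₀)) ∈ S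
  have hgen : ∀ S : Set P, Inv S → ∀ K : Subgroup P, K ≠ ⊤ → S ⊆ K → S ⊆ {1} := by
    intro S hS K hK hSK c hc
    by_contra hc1
    rcases hprim (closure S) (fun g hg d hd x => Cfsg.Lib.Perm.OddCyclic.block_of_invariant ha hreg v₀ S
      (fun h hh hh0 c hc => ⟨_, hS h hh hh0 c hc, (hπv _).symm⟩) g hg d x hd) with hbot | htop
    · exact hc1 (mem_bot.1 (hbot ▸ subset_closure hc))
    · exact hK (le_antisymm le_top (htop.ge.trans ((closure_le K).2 hSK)))
  haveI : IsCyclic P := inferInstance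
  letI : CommGroup P := IsCyclic.commGroup
  set E : Subgroup P := (powMonoidHom p : P →* P).ker with hE
  have hEcard : Nat.card E = p := by
    rw [hE, IsCyclic.card_powMonoidHom_ker, hPcard]
    exact Nat.gcd_eq_right hdvd
  have hEtop : E ≠ ⊤ := fun h => hne (by rw [← hEcard, h, card_top, hPcard])
  have hPptop : (powMonoidHom p : P →* P).range ≠ ⊤ := fun h => by
    have h1 := (powMonoidHom p : P →* P).ker.card_mul_index
    rw [index_ker, ← hE, hEcard, h, card_top] at h1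
    have hpos : 0 < Nat.card P := Nat.card_pos
    have := hp.out.two_le
    nlinarith
  let orb : Set P := {d | ∃ h ∈ G, h v₀ = v₀ ∧ h ((c : Equiv.Perm α) v₀) = (d : Equiv.Perm α) v₀}
  have horb : Inv orb := by
    rintro h hh hh0 d ⟨k, hk, hk0, hkd⟩
    exact ⟨h * k, G.mul_mem hh hk, by rw [Equiv.Perm.mul_apply, hk0, hh0],
      by rw [Equiv.Perm.mul_apply, hkd, hπv]⟩
  have horb_self : c ∈ orb := ⟨1, one_mem _, rfl, rfl⟩
  have horb_one : (1 : P) ∉ orb := by
    rintro ⟨h, -, hh0, h1⟩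
    have h2 : h ((c : Equiv.Perm α) v₀) = h v₀ := by rw [h1, hh0]; rfl
    exact hc (hbij.1 (h.injective h2))
  -- invariant kernels
  have hrel : ∀ (f : Equiv.Perm α), f ∈ G → ∀ x y : α, (π x)⁻¹ * π y ∈ orb ↔
      (π (f x))⁻¹ * π (f y) ∈ orb := by
    have key : ∀ (f : Equiv.Perm α), f ∈ G → ∀ x y : α, (π x)⁻¹ * π y ∈ orb →
        (π (f x))⁻¹ * π (f y) ∈ orb := by
      intro f hf x y hxy
      set k := (π (f x) : Equiv.Perm α)⁻¹ * f * (π x : Equiv.Perm α) with hk
      have hkG : k ∈ G := G.mul_mem (G.mul_mem (G.inv_mem (hPG _)) hf) (hPG _)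
      have hk0 : k v₀ = v₀ := by
        rw [hk, Equiv.Perm.mul_apply, Equiv.Perm.mul_apply, hπv]
        exact Equiv.Perm.inv_eq_iff_eq.2 (hπv _).symm
      have h1 := horb k hkG hk0 _ hxy
      have h2 : π (k ((((π x)⁻¹ * π y : P) : Equiv.Perm α) v₀)) = (π (f x))⁻¹ * π (f y) := by
        rw [← hπc ((π (f x))⁻¹ * π (f y))]
        congr 1
        simp only [hk, Subgroup.coe_mul, Subgroup.coe_inv, Equiv.Perm.mul_apply, Equiv.Perm.inv_def,
          Equiv.apply_symm_apply, hπv]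
      rwa [h2] at h1
    intro f hf x y
    refine ⟨key f hf x y, fun h => ?_⟩
    have := key f⁻¹ (G.inv_mem hf) _ _ h
    simpa using this
  -- a fibre of the `p`th power map is full or empty
  haveI : CharP (ZMod p) p := ZMod.charP p
  set T := Finset.univ.filter (fun t : P => t ∈ orb) with hT
  let K : MonoidAlgebra (ZMod p) P → α → α → ZMod p := fun f x y => f.coeff ((π x)⁻¹ * π y)
  let IsInv : MonoidAlgebra (ZMod p) P → Prop := fun f => ∀ g ∈ G, ∀ x y, K f (g x) (g y) = K f x y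
  have hmul : ∀ f₁ f₂, IsInv f₁ → IsInv f₂ → IsInv (f₁ * f₂) := by
    intro f₁ f₂ h₁ h₂ g hg
    have hK : ∀ x y, K (f₁ * f₂) x y = ∑ z : α, K f₁ x z * K f₂ z y := by
      intro x y
      show (f₁ * f₂).coeff _ = _
      rw [MonoidAlgebra.coeff_mul_apply_left, Finsupp.sum_fintype _ _ (by simp)]
      refine Fintype.sum_equiv ((Equiv.mulLeft (π x)).trans (Equiv.ofBijective _ hbij)) _ _ fun d => ?_
      show _ = f₁.coeff ((π x)⁻¹ * π (((π x * d : P) : Equiv.Perm α) v₀)) *
        f₂.coeff ((π (((π x * d : P) : Equiv.Perm α) v₀))⁻¹ * π y)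
      rw [hπc, inv_mul_cancel_left, mul_inv_rev, mul_assoc]
    intro x y
    rw [hK, hK]
    refine (Fintype.sum_equiv g _ _ fun z => ?_).symm
    rw [h₁ g hg, h₂ g hg]
  set η : MonoidAlgebra (ZMod p) P := ∑ t ∈ T, MonoidAlgebra.single t 1 with hη
  have hηc : ∀ d, η.coeff d = if d ∈ orb then 1 else 0 := by
    intro d
    rw [hη, MonoidAlgebra.coeff_sum, Finsupp.finsetSum_apply]
    simp only [MonoidAlgebra.coeff_single, Finsupp.single_apply, Finset.sum_ite_eq', hT,
      Finset.mem_filter, Finset.mem_univ, true_and]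
  have hηI : IsInv η := fun g hg x y => by
    show η.coeff _ = η.coeff _
    rw [hηc, hηc]
    exact if_congr (hrel g hg x y).symm rfl rfl
  have h1I : IsInv 1 := fun g hg x y => by
    show (1 : MonoidAlgebra (ZMod p) P).coeff _ = (1 : MonoidAlgebra (ZMod p) P).coeff _
    have : ∀ u w : α, (π u)⁻¹ * π w = 1 ↔ u = w := fun u w => by
      rw [inv_mul_eq_one]
      exact ⟨fun h => by rw [← hπv u, h, hπv], fun h => by rw [h]⟩
    simp only [MonoidAlgebra.one_def, MonoidAlgebra.coeff_single, Finsupp.single_apply]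
    refine if_congr ?_ rfl rfl
    rw [eq_comm, this, eq_comm (a := (1 : P)), this]
    exact g.injective.eq_iff
  have hpow : ∀ n : ℕ, IsInv (η ^ n) := by
    intro n
    induction n with
    | zero => rw [pow_zero]; exact h1I
    | succ n ih => rw [pow_succ]; exact hmul _ _ ih hηI
  have hcoef : ∀ s : P, (η ^ p).coeff s = ((T.filter (fun t => t ^ p = s)).card : ZMod p) := by
    intro s
    haveI : CharP (MonoidAlgebra (ZMod p) P) p :=
      charP_of_injective_ringHom (f := MonoidAlgebra.singleOneRingHom)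
        (fun u w h => by simpa using congrArg (fun f : MonoidAlgebra (ZMod p) P => f.coeff 1) h) p
    rw [hη, sum_pow_char p, MonoidAlgebra.coeff_sum, Finsupp.finsetSum_apply]
    simp only [MonoidAlgebra.single_pow, one_pow, MonoidAlgebra.coeff_single, Finsupp.single_apply,
      Finset.sum_boole]
  have hS : {s : P | (η ^ p).coeff s ≠ 0} ⊆ {1} := by
    refine hgen _ (fun h hh hh0 d hd => ?_) _ hPptop fun s hs => ?_
    · have h1 := hpow p h hh v₀ ((d : Equiv.Perm α) v₀)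
      have h0 : π v₀ = 1 := hπc 1
      simp only [K, hh0, h0, inv_one, one_mul, hπc] at h1
      show (η ^ p).coeff _ ≠ 0
      rw [h1]
      exact hd
    · rw [Set.mem_setOf_eq, hcoef] at hs
      obtain ⟨t, ht⟩ := Finset.card_pos.1 (Nat.pos_of_ne_zero fun h0 => hs (by rw [h0]; simp))
      exact ⟨t, (Finset.mem_filter.1 ht).2⟩
  have hfib : ∀ t ∈ orb, t ∉ E → ∀ z ∈ E, t * z ∈ orb := by
    intro t ht htE z hz
    have hts : t ^ p ≠ 1 := htE
    have h0 : ((T.filter (fun u => u ^ p = t ^ p)).card : ZMod p) = 0 := by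
      rw [← hcoef]
      by_contra hne'
      exact hts (hS hne')
    rw [ZMod.natCast_eq_zero_iff] at h0
    have hEfin : (Finset.univ.filter (fun u : P => u ^ p = t ^ p)).card = p := by
      refine Eq.trans ?_ hEcard
      rw [Nat.card_eq_fintype_card, ← Fintype.card_subtype]
      refine Fintype.card_congr ((Equiv.mulLeft t⁻¹).subtypeEquiv fun u => ?_)
      show u ^ p = t ^ p ↔ (t⁻¹ * u) ^ p = 1
      rw [mul_pow, inv_pow, inv_mul_eq_one]
      exact eq_comm
    have hsub : T.filter (fun u => u ^ p = t ^ p) ⊆ Finset.univ.filter (fun u : P => u ^ p = t ^ p) :=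
      Finset.filter_subset_filter _ (Finset.subset_univ _)
    have hpos : 0 < (T.filter (fun u => u ^ p = t ^ p)).card :=
      Finset.card_pos.2 ⟨t, by simp [hT, ht]⟩
    have heq := Finset.eq_of_subset_of_card_le hsub (by rw [hEfin]; exact Nat.le_of_dvd hpos h0)
    have : t * z ∈ T.filter (fun u => u ^ p = t ^ p) := by
      rw [heq, Finset.mem_filter, mul_pow, show z ^ p = 1 from hz, mul_one]
      exact ⟨Finset.mem_univ _, rfl⟩
    simpa [hT] using (Finset.mem_filter.1 this).1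
  refine ⟨fun t z ht htp hzp => hfib t ht htp z hzp, ?_⟩
  -- the orbit meets `E`
  by_contra hcon
  push Not at hcon
  have hnE : ∀ t ∈ orb, t ∉ E := by
    rintro t ⟨h, hh, hh0, he⟩ htE
    exact hcon t htE (fun ht1 => horb_one (ht1 ▸ ⟨h, hh, hh0, he⟩)) h hh hh0 he
  let cnt : P → ℕ := fun g => (Finset.univ.filter fun z : P => z ∈ orb ∧ g⁻¹ * z ∈ orb).card
  have hcnt : ∀ (h : Equiv.Perm α), h ∈ G → h v₀ = v₀ → ∀ g : P,
      cnt (π (h ((g : Equiv.Perm α) v₀))) = cnt g := by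
    intro h hh hh0 g
    symm
    refine Finset.card_equiv (((Equiv.ofBijective _ hbij).trans h).trans (Equiv.ofBijective _ hbij).symm) fun z => ?_
    simp only [Finset.mem_filter, Finset.mem_univ, true_and]
    show _ ↔ π (h ((z : Equiv.Perm α) v₀)) ∈ orb ∧
      (π (h ((g : Equiv.Perm α) v₀)))⁻¹ * π (h ((z : Equiv.Perm α) v₀)) ∈ orb
    have h0 : π v₀ = 1 := hπc 1
    have h1 := hrel h hh v₀ ((z : Equiv.Perm α) v₀)
    have h2 := hrel h hh ((g : Equiv.Perm α) v₀) ((z : Equiv.Perm α) v₀)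
    simp only [hh0, h0, inv_one, one_mul, hπc] at h1
    simp only [hπc] at h2
    rw [h1, h2]
  let D : Subgroup P :=
    { carrier := {g | ∀ z, z ∈ orb ↔ g⁻¹ * z ∈ orb}
      one_mem' := fun z => by simp
      mul_mem' := fun {g h} hg hh z => by
        rw [hg z, hh (g⁻¹ * z), mul_inv_rev, mul_assoc]
      inv_mem' := fun {g} hg z => by
        rw [inv_inv]
        have := hg (g * z)
        rw [inv_mul_cancel_left] at this
        exact this.symm }
  have hDtop : D ≠ ⊤ := fun h =>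
    horb_one (((h ▸ mem_top _ : (c⁻¹ : P) ∈ D) 1).2 (by simpa using horb_self))
  set S := {g : P | cnt g = T.card} with hSdef
  have hSD : S ⊆ D := by
    intro g hg
    have h1 : ∀ z ∈ orb, g⁻¹ * z ∈ orb := by
      intro z hz
      have h2 : (Finset.univ.filter fun z : P => z ∈ orb ∧ g⁻¹ * z ∈ orb) = T :=
        Finset.eq_of_subset_of_card_le (fun z hz => by simp_all [hT]) hg.ge
      have h3 : z ∈ T := by simp [hT, hz]
      rw [← h2] at h3
      exact (Finset.mem_filter.1 h3).2.2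
    refine fun z => ⟨h1 z, fun hz => ?_⟩
    have h4 : T.image (fun t => g⁻¹ * t) = T := by
      refine Finset.eq_of_subset_of_card_le (fun t ht => ?_)
        (Finset.card_image_of_injective _ (mul_right_injective g⁻¹)).ge
      obtain ⟨u, hu, rfl⟩ := Finset.mem_image.1 ht
      simp only [hT, Finset.mem_filter, Finset.mem_univ, true_and] at hu ⊢
      exact h1 u hu
    have h5 : g⁻¹ * z ∈ T.image (fun t => g⁻¹ * t) := by rw [h4]; simp [hT, hz]
    obtain ⟨u, hu, hu'⟩ := Finset.mem_image.1 h5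
    rw [← mul_left_cancel hu']
    simpa [hT] using hu
  have hES : (E : Set P) ⊆ S := by
    intro z hz
    show cnt z = T.card
    refine congrArg Finset.card (Finset.filter_congr fun t _ => ?_)
    refine ⟨fun h => h.1, fun ht => ⟨ht, ?_⟩⟩
    rw [mul_comm]
    exact hfib t ht (hnE t ht) _ (E.inv_mem hz)
  have h2 := hgen S (fun h hh hh0 g hg => (hcnt h hh hh0 g).trans hg) D hDtop hSD
  have h3 : E ≤ ⊥ := fun z hz => h2 (hES hz)
  exact hp.out.one_lt.ne (by rw [← hEcard, le_bot_iff.1 h3, card_bot])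

/-- Schur: in a primitive group with a regular cyclic subgroup, the degree having two distinct prime
divisors, the stabiliser of a point is transitive on the other points. -/
theorem schur_transitive (ha : a ∈ G) (hreg : ∀ x y : α, ∃ i : ℤ, (a ^ i) x = y) (v₀ : α)
    (hprim : ∀ K : Subgroup (zpowers a), (∀ g ∈ G, ∀ d ∈ K, ∀ x : α,
      ∃ d' ∈ K, g ((d : Equiv.Perm α) x) = (d' : Equiv.Perm α) (g x)) → K = ⊥ ∨ K = ⊤)
    {p r : ℕ} (hp : p.Prime) (hr : r.Prime) (hpr : p ≠ r) (hpn : p ∣ Nat.card α) (hrn : r ∣ Nat.card α)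
    (x y : α) (hx : x ≠ v₀) (hy : y ≠ v₀) : ∃ g ∈ G, g v₀ = v₀ ∧ g x = y := by
  haveI := Fact.mk hp
  haveI := Fact.mk hr
  have hbij := Cfsg.Lib.Perm.OddCyclic.exists_param a hreg v₀
  have hnp : p ≠ Nat.card α := fun h =>
    hpr ((Nat.prime_dvd_prime_iff_eq hr hp).mp (h ▸ hrn)).symm
  have hnr : r ≠ Nat.card α := fun h => hpr ((Nat.prime_dvd_prime_iff_eq hp hr).mp (h ▸ hpn))
  haveI : IsCyclic (zpowers a) := inferInstance
  letI : CommGroup (zpowers a) := IsCyclic.commGroup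
  have hor : ∀ t : zpowers a, t ≠ 1 → ¬ (t ^ p = 1 ∧ t ^ r = 1) := fun t ht ⟨h1, h2⟩ => ht (by
    have := pow_gcd_eq_one.mpr ⟨h1, h2⟩
    rwa [((Nat.coprime_primes hp hr).mpr hpr).gcd_eq_one, pow_one] at this)
  -- every orbit contains every nontrivial element killed by `p`
  have key : ∀ c : zpowers a, c ≠ 1 → ∀ e : zpowers a, e ^ p = 1 → e ≠ 1 →
      ∃ h ∈ G, h v₀ = v₀ ∧ h ((c : Equiv.Perm α) v₀) = (e : Equiv.Perm α) v₀ := by
    intro c hc e hep he1
    obtain ⟨hcosP, t, htp, ht1, hto⟩ := orbit_cosets (p := p) ha hreg v₀ hprim hpn hnp c hc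
    obtain ⟨hcosR, -⟩ := orbit_cosets (p := r) ha hreg v₀ hprim hrn hnr c hc
    obtain ⟨-, s, hsr, hs1, -⟩ := orbit_cosets (p := r) ha hreg v₀ hprim hrn hnr c hc
    have htr : t ^ r ≠ 1 := fun h => hor t ht1 ⟨htp, h⟩
    have hsp : s ^ p ≠ 1 := fun h => hor s hs1 ⟨h, hsr⟩
    have h1 := hcosR t s hto htr hsr
    have h2 : (t * s) ^ p ≠ 1 := by rwa [mul_pow, htp, one_mul]
    have h3 := hcosP (t * s) (t⁻¹ * e) h1 h2 (by rw [mul_pow, inv_pow, htp, hep, inv_one, one_mul])
    have h4 : (t * s * (t⁻¹ * e)) = s * e := by rw [mul_comm t s, mul_assoc, mul_inv_cancel_left]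
    rw [h4] at h3
    have h5 := hcosR (s * e) s⁻¹ h3 (fun h => hor e he1 ⟨hep, by rwa [mul_pow, hsr, one_mul] at h⟩)
      (by rw [inv_pow, hsr, inv_one])
    rwa [mul_comm s e, mul_inv_cancel_right] at h5
  obtain ⟨cx, rfl⟩ := hbij.2 x
  obtain ⟨cy, rfl⟩ := hbij.2 y
  have hx1 : cx ≠ 1 := fun h => hx (by rw [h]; rfl)
  have hy1 : cy ≠ 1 := fun h => hy (by rw [h]; rfl)
  obtain ⟨-, e, hep, he1, g₁, hg₁, hg₁0, h₁⟩ := orbit_cosets (p := p) ha hreg v₀ hprim hpn hnp cx hx1
  obtain ⟨g₂, hg₂, hg₂0, h₂⟩ := key cy hy1 e hep he1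
  refine ⟨g₂⁻¹ * g₁, G.mul_mem (G.inv_mem hg₂) hg₁, ?_, ?_⟩
  · rw [Equiv.Perm.mul_apply, hg₁0, Equiv.Perm.inv_eq_iff_eq, hg₂0]
  · show g₂⁻¹ (g₁ ((cx : Equiv.Perm α) v₀)) = _
    rw [Equiv.Perm.inv_eq_iff_eq, h₁, h₂]

end Cfsg.Lib.RealClass
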