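import Cfsg.Agent.Lib.RealClass.Centres
import Cfsg.Agent.Lib.RealClass.NoSolvable
import Cfsg.Agent.Lib.RealClass.Schur

/-!
# No nonsolvable group satisfies the hypotheses
-/

set_option autoImplicit false
set_option linter.style.haveILetI false
set_option linter.unusedSectionVars false

namespace Cfsg.Lib.RealClass

open Subgroup
open scoped Pointwise

universe u w

theorem mul_two_pow_sub_one_ne {a b f s : ℕ} (hs : 1 ≤ s) (hsf : s ≤ f) (hfb : f < b) (hab : a < b) :
    (2 ^ a - 1) * (2 ^ f - 1) ≠ (2 ^ b - 1) * (2 ^ s - 1) := by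
  intro h
  have hb1 : 0 < 2 ^ b - 1 := by have := Nat.one_lt_two_pow (n := b) (by omega); omega
  have hs1 : 0 < 2 ^ s - 1 := by have := Nat.one_lt_two_pow (n := s) (by omega); omega
  have hinj : ∀ x y : ℕ, 2 ^ x - 1 = 2 ^ y - 1 → x = y := fun x y hxy => by
    have := Nat.one_le_two_pow (n := x)
    have := Nat.one_le_two_pow (n := y)
    exact Nat.pow_right_injective le_rfl (show 2 ^ x = 2 ^ y by omega)
  rcases eq_or_lt_of_le hsf with rfl | hsf'
  · exact hab.ne (hinj a b (Nat.eq_of_mul_eq_mul_right hs1 h))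
  have hsum : 2 ^ (a + f) + 2 ^ b + 2 ^ s = 2 ^ (b + s) + 2 ^ a + 2 ^ f := by
    zify [Nat.one_le_two_pow (n := a), Nat.one_le_two_pow (n := f), Nat.one_le_two_pow (n := b),
      Nat.one_le_two_pow (n := s)] at h ⊢
    rw [pow_add, pow_add]
    linarith [h]
  rcases lt_trichotomy a s with has | rfl | has
  · have hd : ∀ x, a < x → 2 ^ (a + 1) ∣ 2 ^ x := fun x hx => pow_dvd_pow 2 hx
    have h1 : 2 ^ (a + 1) ∣ 2 ^ (b + s) + 2 ^ a + 2 ^ f :=
      hsum ▸ dvd_add (dvd_add (hd _ (by omega)) (hd _ (by omega))) (hd _ has)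
    have h2 := (Nat.dvd_add_left (hd f (by omega))).mp h1
    have h3 := (Nat.dvd_add_right (hd (b + s) (by omega))).mp h2
    have := (Nat.pow_dvd_pow_iff_le_right one_lt_two).mp h3
    omega
  · rw [mul_comm] at h
    exact hfb.ne (hinj f b (Nat.eq_of_mul_eq_mul_right hs1 h))
  · have hd : ∀ x, s < x → 2 ^ (s + 1) ∣ 2 ^ x := fun x hx => pow_dvd_pow 2 hx
    have h1 : 2 ^ (s + 1) ∣ 2 ^ (a + f) + 2 ^ b + 2 ^ s :=
      hsum ▸ dvd_add (dvd_add (hd _ (by omega)) (hd _ has)) (hd _ hsf')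
    have h2 := (Nat.dvd_add_right (dvd_add (hd (a + f) (by omega)) (hd b (by omega)))).mp h1
    have := (Nat.pow_dvd_pow_iff_le_right one_lt_two).mp h2
    omega

variable {Γ : Type u} [Group Γ] [Finite Γ] {V : Type w} [AddCommGroup V] [Finite V]
  [DistribMulAction Γ V]

namespace RealData

variable [FaithfulSMul Γ V] (D : RealData Γ V)
include D

/-- Schur's theorem applied to the action on the Sylow subgroups. -/
theorem normalizer_transitive (hns : ¬ Group.IsSolvable Γ)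
    (hmin : ∀ N : Subgroup Γ, N.Normal → N ≠ ⊤ → Group.IsSolvable N) (hrig : Rigid Γ V) {a : Γ}
    (ha : ∀ P Q : Sylow 2 Γ, ∃ i : ℤ, a ^ i • P = Q) {e f : ℕ} (hf : 1 ≤ f) (hfe : f < e) (hfdvd : f ∣ e)
    (hn : Nat.card (Sylow 2 Γ) * (2 ^ f - 1) = 2 ^ (2 * e) - 1) (P₀ Q R : Sylow 2 Γ) (hQ : Q ≠ P₀)
    (hR : R ≠ P₀) : ∃ g ∈ normalizer ((P₀ : Subgroup Γ) : Set Γ), g • Q = R := by
  haveI : Fact (Nat.Prime 2) := ⟨Nat.prime_two⟩
  set φ := MulAction.toPermHom Γ (Sylow 2 Γ) with hφ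
  have hφa : ∀ (g : Γ) (X : Sylow 2 Γ), φ g X = g • X := fun g X => rfl
  have hreg : ∀ X Y : Sylow 2 Γ, ∃ i : ℤ, (φ a ^ i) X = Y := fun X Y => by
    obtain ⟨i, hi⟩ := ha X Y
    exact ⟨i, by rw [← map_zpow]; exact hi⟩
  -- the two primes
  obtain ⟨m, hm⟩ := Nat.pow_sub_one_dvd_pow_sub_one 2 hfdvd
  have hf1 : 0 < 2 ^ f - 1 := by have := Nat.one_lt_two_pow (n := f) (by omega); omega
  have hnm : Nat.card (Sylow 2 Γ) = (2 ^ e + 1) * m := by
    refine Nat.eq_of_mul_eq_mul_right hf1 (hn.trans ?_)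
    rw [mul_assoc, mul_comm m, ← hm, ← Nat.sq_sub_sq, one_pow, ← pow_mul, mul_comm e]
  have hm1 : m ≠ 1 := fun h => by
    rw [h, mul_one] at hm
    have := Nat.pow_lt_pow_right one_lt_two hfe
    have := Nat.one_le_two_pow (n := f)
    omega
  obtain ⟨q, hq, hqd⟩ := Nat.exists_prime_and_dvd (n := 2 ^ e + 1) (by have := Nat.one_le_two_pow (n := e); omega)
  obtain ⟨r, hr, hrd⟩ := Nat.exists_prime_and_dvd hm1
  have hqr : q ≠ r := by
    rintro rfl
    have h2e : 2 ∣ 2 ^ e := dvd_pow_self 2 (by omega)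
    have h1 : q ∣ 2 := by
      have h3 := Nat.dvd_sub hqd (hm ▸ hrd.mul_left _ : q ∣ 2 ^ e - 1)
      rwa [show 2 ^ e + 1 - (2 ^ e - 1) = 2 by have := Nat.one_le_two_pow (n := e); omega] at h3
    obtain rfl := (Nat.prime_dvd_prime_iff_eq hq Nat.prime_two).mp h1
    omega
  -- primitivity
  have hprim : ∀ K : Subgroup (zpowers (φ a)), (∀ g ∈ φ.range, ∀ d ∈ K, ∀ X : Sylow 2 Γ,
      ∃ d' ∈ K, g ((d : Equiv.Perm (Sylow 2 Γ)) X) = (d' : Equiv.Perm (Sylow 2 Γ)) (g X)) →
      K = ⊥ ∨ K = ⊤ := by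
    intro K hK
    have hbij := Cfsg.Lib.Perm.OddCyclic.exists_param (φ a) hreg P₀
    let B : Set (Sylow 2 Γ) := {X | ∃ d ∈ K, (d : Equiv.Perm (Sylow 2 Γ)) P₀ = X}
    let M : Subgroup Γ :=
      { carrier := {g | ∀ X, g • X ∈ B ↔ X ∈ B}
        one_mem' := fun X => by rw [one_smul]
        mul_mem' := fun {g h} hg hh X => by rw [mul_smul, hg, hh]
        inv_mem' := fun {g} hg X => by rw [← hg (g⁻¹ • X), smul_inv_smul] }
    have hstep : ∀ g : Γ, g • P₀ = P₀ → ∀ X ∈ B, g • X ∈ B := by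
      rintro g hg _ ⟨d, hd, rfl⟩
      obtain ⟨d', hd', h⟩ := hK (φ g) ⟨g, rfl⟩ d hd P₀
      rw [hφa, hφa, hg] at h
      exact ⟨d', hd', h.symm⟩
    have hNM : normalizer ((P₀ : Subgroup Γ) : Set Γ) ≤ M := fun g hg X => by
      have hg' : g • P₀ = P₀ := Sylow.smul_eq_iff_mem_normalizer.mpr hg
      refine ⟨fun h => ?_, hstep g hg' X⟩
      have := hstep g⁻¹ (inv_smul_eq_iff.mpr hg'.symm) _ h
      rwa [inv_smul_smul] at this
    rcases D.normalizer_maximal hns hmin hrig P₀ hNM with hM | hM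
    · refine Or.inl (eq_bot_iff.mpr fun d hd => mem_bot.mpr (hbij.1 ?_))
      obtain ⟨i, hi⟩ := mem_zpowers_iff.mp d.2
      have hai : a ^ i ∈ M := by
        intro X
        rw [← hφa, map_zpow, hi]
        constructor
        · rintro ⟨d', hd', h⟩
          refine ⟨d⁻¹ * d', mul_mem (inv_mem hd) hd', ?_⟩
          rw [Subgroup.coe_mul, Equiv.Perm.mul_apply, h, Subgroup.coe_inv, Equiv.Perm.inv_def, Equiv.symm_apply_apply]
        · rintro ⟨d', hd', rfl⟩
          exact ⟨d * d', mul_mem hd hd', rfl⟩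
      rw [hM] at hai
      show (d : Equiv.Perm (Sylow 2 Γ)) P₀ = P₀
      rw [← hi, ← map_zpow, hφa]
      exact Sylow.smul_eq_iff_mem_normalizer.mpr hai
    · refine Or.inr (eq_top_iff.mpr fun c _ => ?_)
      obtain ⟨i, hi⟩ := mem_zpowers_iff.mp c.2
      have h1 : a ^ i ∈ M := hM ▸ mem_top _
      obtain ⟨d, hd, hdc⟩ := (h1 P₀).mpr ⟨1, one_mem _, rfl⟩
      rw [← hφa, map_zpow, hi] at hdc
      rwa [← hbij.1 hdc]
  obtain ⟨_, ⟨g, rfl⟩, hg0, hg⟩ := schur_transitive (G := φ.range) ⟨a, rfl⟩ hreg P₀ hprim hq hr hqr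
    (hnm ▸ hqd.mul_right m) (hnm ▸ hrd.mul_left _) Q R hQ hR
  exact ⟨g, Sylow.smul_eq_iff_mem_normalizer.mp hg0, hg⟩

theorem false_of_minimal (hns : ¬ Group.IsSolvable Γ)
    (hmin : ∀ N : Subgroup Γ, N.Normal → N ≠ ⊤ → Group.IsSolvable N) : False := by
  classical
  haveI : Fact (Nat.Prime 2) := ⟨Nat.prime_two⟩
  haveI : Fintype (Sylow 2 Γ) := Fintype.ofFinite _
  obtain ⟨e, f, hf, hfdvd, he, hV, hfP, hfu, hn⟩ := D.exists_params hns
  have hfe := D.lt_params hns hmin hfdvd he hfP hfu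
  obtain ⟨⟨a, ha⟩, hrig⟩ := D.exists_singer hns hf hfdvd hfe hV hfP hfu hn
  obtain ⟨P⟩ : Nonempty (Sylow 2 Γ) := inferInstance
  have htrans := D.normalizer_transitive hns hmin hrig ha hf hfe hfdvd hn P
  set C := fixV (V := V) (P : Subgroup Γ) with hC
  let U : AddSubgroup V :=
    { carrier := {v | ∀ s ∈ (P : Subgroup Γ), s • v + v ∈ C}
      zero_mem' := fun s _ => by rw [smul_zero, add_zero]; exact zero_mem C
      add_mem' := fun {x y} hx hy s hs => by
        rw [smul_add, add_add_add_comm]; exact add_mem (hx s hs) (hy s hs)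
      neg_mem' := fun {x} hx s hs => by rw [smul_neg, ← neg_add]; exact neg_mem (hx s hs) }
  have hCU : C ≤ U := fun v hv s hs => by rw [mem_fixV.mp hv s hs, D.exp2]; exact zero_mem C
  have hNU : ∀ g ∈ normalizer ((P : Subgroup Γ) : Set Γ), ∀ v ∈ U, g • v ∈ U := by
    intro g hg v hv s hs
    have h1 : g⁻¹ * s * g ∈ (P : Subgroup Γ) := by
      have := (mem_normalizer_iff.mp (inv_mem hg) s).mp hs
      rwa [inv_inv] at this
    have h2 := smul_mem_fixV_of_normalizer (hv _ h1) hg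
    rwa [smul_add, ← mul_smul, show g * (g⁻¹ * s * g) = s * g by simp [mul_assoc], mul_smul] at h2
  obtain ⟨h, hh⟩ := D.exists_card_eq U
  -- `U` is larger than `C`
  have hfh : f < h := by
    let act : MulAction (P : Subgroup Γ) (V ⧸ C) :=
      { smul := fun s => QuotientAddGroup.map C C (DistribSMul.toAddMonoidHom V (s : Γ))
          (fun v hv => by
            show (s : Γ) • v ∈ C
            rw [mem_fixV.mp hv _ s.2]; exact hv)
        one_smul := fun x => QuotientAddGroup.induction_on x fun v => congrArg QuotientAddGroup.mk (one_smul Γ v)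
        mul_smul := fun s t x => QuotientAddGroup.induction_on x fun v =>
          congrArg QuotientAddGroup.mk (mul_smul (s : Γ) (t : Γ) v) }
    have hdvd : 2 ∣ Nat.card (V ⧸ C) := by
      have h1 := C.index_mul_card
      rw [hfP P, hV, AddSubgroup.index_eq_card] at h1
      have h2 : Nat.card (V ⧸ C) = 2 ^ (2 * e - f) := by
        refine Nat.eq_of_mul_eq_mul_right (Nat.two_pow_pos f) (h1.trans ?_)
        rw [← pow_add, Nat.sub_add_cancel (by omega)]
      rw [h2]; exact dvd_pow_self 2 (by omega)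
    obtain ⟨b, hb, hb0⟩ := P.isPGroup'.exists_fixed_point_of_prime_dvd_card_of_fixed_point (V ⧸ C) hdvd
      (a := 0) (fun s => map_zero (QuotientAddGroup.map C C _ _))
    obtain ⟨v, rfl⟩ := QuotientAddGroup.mk_surjective b
    have hvU : v ∈ U := fun s hs => by
      have h1 : ((s • v : V) : V ⧸ C) = (v : V ⧸ C) := hb ⟨s, hs⟩
      rw [← D.sub_eq, ← QuotientAddGroup.eq_iff_sub_mem]
      exact h1
    have hlt : C < U := lt_of_le_of_ne hCU fun he => hb0 ((QuotientAddGroup.eq_zero_iff v).mpr (he ▸ hvU)).symm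
    have hlt' : Nat.card C < Nat.card U := by
      rw [← SetLike.coe_sort_coe, ← SetLike.coe_sort_coe, Nat.card_coe_set_eq, Nat.card_coe_set_eq]
      exact Set.ncard_lt_ncard hlt (Set.toFinite _)
    rw [hfP P, hh] at hlt'
    exact (Nat.pow_lt_pow_iff_right one_lt_two).mp hlt'
  -- `U` is not everything
  have hhe : h < 2 * e := by
    by_contra hle
    have htop : U = ⊤ := AddSubgroup.eq_top_of_le_card _ (by
      rw [hh, hV]; exact Nat.pow_le_pow_right two_pos (by omega))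
    obtain ⟨u₀, hu₀⟩ := exists_involution hns
    obtain ⟨R, hR⟩ := exists_sylow_mem (p := 2) (c := u₀) (k := 1) (by rw [pow_one, ← hu₀, pow_orderOf_eq_one])
    obtain ⟨g, rfl⟩ := MulAction.exists_smul_eq Γ R P
    set u := g * u₀ * g⁻¹
    have huP : u ∈ (g • R : Sylow 2 Γ) := Subgroup.smul_mem_pointwise_smul _ (MulAut.conj g) _ hR
    have hu : orderOf u = 2 := (Cfsg.Lib.Invol.orderOf_conj_eq g u₀).trans hu₀
    let ψ : V →+ C := AddMonoidHom.mk' (fun v => ⟨u • v + v, (htop ▸ AddSubgroup.mem_top v : v ∈ U) u huP⟩)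
      fun x y => Subtype.ext (by simp [smul_add, add_add_add_comm])
    have hker : ψ.ker ≤ fixE u := fun v hv => D.eq_of_add (congrArg Subtype.val hv :)
    have h1 : Nat.card V ≤ 2 ^ e * 2 ^ f := by
      rw [← hfu u hu, ← hfP (g • R), ← ψ.ker.card_mul_index, AddSubgroup.index_ker]
      exact Nat.mul_le_mul (AddSubgroup.card_le_of_le hker) (Nat.card_le_card_of_injective _ Subtype.val_injective)
    rw [hV, ← pow_add] at h1
    have := (Nat.pow_le_pow_iff_right one_lt_two).mp h1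
    omega
  -- counting
  obtain ⟨Q, hQ⟩ : ∃ Q : Sylow 2 Γ, Q ≠ P := by
    by_contra hcon
    push Not at hcon
    refine one_lt_card_sylow hns P (Subgroup.normalizer_eq_top_iff.mp (eq_top_iff.mpr fun g _ =>
      Sylow.smul_eq_iff_mem_normalizer.mp (hcon _)))
  obtain ⟨s, hs⟩ := D.exists_card_eq (U ⊓ fixV (Q : Subgroup Γ))
  have hsf : s ≤ f := (Nat.pow_le_pow_iff_right (a := 2) one_lt_two).mp (by
    rw [← hs, ← hfP Q]; exact AddSubgroup.card_le_of_le inf_le_right)
  have hconst : ∀ R ∈ (Finset.univ : Finset (Sylow 2 Γ)).erase P,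
      Nat.card ↥(U ⊓ fixV (R : Subgroup Γ)) - 1 = 2 ^ s - 1 := by
    intro R hR
    obtain ⟨g, hg, rfl⟩ := htrans Q R hQ (Finset.ne_of_mem_erase hR)
    rw [← hs]
    refine congrArg (· - 1) (Nat.card_congr
      { toFun := fun v => ⟨g⁻¹ • (v : V), hNU _ (inv_mem hg) _ v.2.1, by
          have := smul_mem_fixV v.2.2 g⁻¹
          rwa [inv_smul_smul] at this⟩
        invFun := fun v => ⟨g • (v : V), hNU _ hg _ v.2.1, smul_mem_fixV v.2.2 g⟩
        left_inv := fun v => Subtype.ext (smul_inv_smul g (v : V))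
        right_inv := fun v => Subtype.ext (inv_smul_smul g (v : V)) })
  have hcount := D.card_sub_one_eq U
  rw [← Finset.add_sum_erase _ _ (Finset.mem_univ P), Finset.sum_congr rfl hconst, Finset.sum_const,
    Finset.card_erase_of_mem (Finset.mem_univ P), Finset.card_univ, ← Nat.card_eq_fintype_card,
    inf_eq_right.mpr hCU, hfP P, hh, smul_eq_mul] at hcount
  have hs1 : 1 ≤ s := by
    refine Nat.pos_of_ne_zero fun h0 => ?_
    rw [h0, pow_zero, Nat.sub_self, mul_zero, add_zero] at hcount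
    have := Nat.pow_lt_pow_right one_lt_two hfh
    have := Nat.one_le_two_pow (n := f)
    omega
  refine mul_two_pow_sub_one_ne hs1 hsf (by omega : f < 2 * e - f) (by omega : h - f < 2 * e - f) ?_
  have hnpos : 1 ≤ Nat.card (Sylow 2 Γ) := Nat.card_pos
  obtain ⟨h', rfl⟩ : ∃ h', h = f + h' := ⟨h - f, by omega⟩
  obtain ⟨b, hb⟩ : ∃ b, 2 * e = f + b := ⟨2 * e - f, by omega⟩
  rw [hb] at hn ⊢
  rw [Nat.add_sub_cancel_left, Nat.add_sub_cancel_left]
  zify [Nat.one_le_two_pow (n := f), Nat.one_le_two_pow (n := f + b), Nat.one_le_two_pow (n := f + h'),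
    Nat.one_le_two_pow (n := s), Nat.one_le_two_pow (n := h'), Nat.one_le_two_pow (n := b), hnpos]
    at hn hcount ⊢
  rw [pow_add] at hn hcount
  refine mul_left_cancel₀ (pow_ne_zero f (two_ne_zero : (2 : ℤ) ≠ 0)) ?_
  linear_combination ((2 : ℤ) ^ f - 1) * hcount + ((2 : ℤ) ^ s - 1) * hn

end RealData

/-- The hypotheses pass to normal subgroups. -/
theorem RealData.normal (D : RealData Γ V) (N : Subgroup Γ) [N.Normal] : RealData N V := by
  haveI : Fact (Nat.Prime 2) := ⟨Nat.prime_two⟩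
  have hres : ∀ P : Sylow 2 Γ, ∃ R : Sylow 2 N, (∀ x ∈ R, (x : Γ) ∈ P) ∧
      (normalizer ((P : Subgroup Γ) : Set Γ)).subgroupOf N ≤ normalizer ((R : Subgroup N) : Set N) := by
    intro P
    obtain ⟨R, hR⟩ := (IsPGroup.comap_subtype (K := N) P.isPGroup').exists_le_sylow
    obtain ⟨P', hP'⟩ := (R.isPGroup'.map N.subtype).exists_le_sylow
    obtain ⟨g, hg⟩ := MulAction.exists_smul_eq Γ P' P
    have hcard : Nat.card ((P : Subgroup Γ).subgroupOf N) = Nat.card (R : Subgroup N) := by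
      refine le_antisymm (Subgroup.card_le_of_le hR) ?_
      refine Nat.card_le_card_of_injective (fun x : (R : Subgroup N) => (⟨⟨g * ((x : N) : Γ) * g⁻¹,
        (inferInstance : N.Normal).conj_mem _ (x : N).2 g⟩, show g * ((x : N) : Γ) * g⁻¹ ∈ (P : Subgroup Γ) from
          hg ▸ Subgroup.smul_mem_pointwise_smul _ (MulAut.conj g) _ (hP' (mem_map_of_mem _ x.2))⟩ :
        (P : Subgroup Γ).subgroupOf N)) fun x y h => ?_
      have h' := congrArg (fun z : ↥((P : Subgroup Γ).subgroupOf N) => ((z : N) : Γ)) h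
      exact Subtype.ext (Subtype.ext (mul_left_cancel (mul_right_cancel (h' :))))
    have heq : (P : Subgroup Γ).subgroupOf N = R :=
      Subgroup.eq_of_le_of_card_ge hR hcard.ge
    refine ⟨R, fun x hx => (heq ▸ hx : x ∈ (P : Subgroup Γ).subgroupOf N), fun x hx => ?_⟩
    rw [← heq]
    rw [mem_subgroupOf, mem_normalizer_iff] at hx
    exact mem_normalizer_iff.mpr fun y => by
      simp only [mem_subgroupOf, Subgroup.coe_mul, Subgroup.coe_inv]
      exact hx (y : Γ)
  refine ⟨D.exp2, D.ne, fun d hd R => ?_, fun v hv => ?_⟩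
  · have hd' : RealP (d : Γ) := ⟨(Subgroup.orderOf_coe d).symm ▸ hd.1, (Subgroup.orderOf_coe d).symm ▸ hd.2.1,
      N.subtype.map_isConj hd.2.2⟩
    obtain ⟨P₀⟩ : Nonempty (Sylow 2 Γ) := inferInstance
    obtain ⟨R₀, -, hR₀⟩ := hres P₀
    have h1 : ncl d ∣ ncl (d : Γ) := by
      refine (Subgroup.index_dvd_of_le ?_).trans
        (Cfsg.Agent.S4034.relIndex_dvd_index_of_normal_right (centralizer ({(d : Γ)} : Set Γ)) N)
      exact fun x hx => mem_centralizer_singleton_iff.2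
        (Subtype.ext (mem_centralizer_singleton_iff.1 (mem_subgroupOf.1 hx)))
    have h2 : (normalizer ((R : Subgroup N) : Set N)).index ∣ (normalizer ((P₀ : Subgroup Γ) : Set Γ)).index := by
      have e : (normalizer ((R : Subgroup N) : Set N)).index = (normalizer ((R₀ : Subgroup N) : Set N)).index :=
        R.card_eq_index_normalizer.symm.trans R₀.card_eq_index_normalizer
      rw [e]
      exact (Subgroup.index_dvd_of_le hR₀).trans
        (Cfsg.Agent.S4034.relIndex_dvd_index_of_normal_right (normalizer ((P₀ : Subgroup Γ) : Set Γ)) N)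
    exact ((D.cop _ hd' P₀).coprime_dvd_left h1).coprime_dvd_right h2
  · obtain ⟨P, hP, hP'⟩ := D.stab v hv
    obtain ⟨R, hR, hR'⟩ := hres P
    exact ⟨R, fun x hx => mem_fixV.mp hP (x : Γ) (hR x hx), fun g hg => hR' (mem_subgroupOf.mpr (hP' (g : Γ) hg))⟩

/-- Groups with such an action are solvable. -/
theorem RealData.isSolvable [FaithfulSMul Γ V] (D : RealData Γ V) : Group.IsSolvable Γ := by
  induction hn : Nat.card Γ using Nat.strong_induction_on generalizing Γ with
  | _ n ih =>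
    subst hn
    by_contra hns
    refine D.false_of_minimal hns fun N hN hNtop => ?_
    haveI := hN
    haveI : FaithfulSMul N V := ⟨fun {x y} h => Subtype.ext (eq_of_smul_eq_smul (α := V) h)⟩
    refine ih (Nat.card N) ?_ (D.normal N) rfl
    exact lt_of_le_of_ne (Subgroup.card_le_card_group N) fun h => hNtop (Subgroup.eq_top_of_card_eq N h)

end Cfsg.Lib.RealClass
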