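import Cfsg.Agent.Lib.RealClass.Basic

/-!
# An involution fixes more than one point
-/

set_option autoImplicit false
set_option linter.style.haveILetI false
set_option linter.unusedSectionVars false

namespace Cfsg.Lib.RealClass

open Subgroup
open scoped Pointwise

universe u w

variable {Γ : Type u} [Group Γ] [Finite Γ] {V : Type w} [AddCommGroup V] [Finite V]
  [DistribMulAction Γ V] [FaithfulSMul Γ V]

theorem RealData.lt_params (D : RealData Γ V) (hns : ¬ Group.IsSolvable Γ)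
    (hmin : ∀ N : Subgroup Γ, N.Normal → N ≠ ⊤ → Group.IsSolvable N) {e f : ℕ} (hfe : f ∣ e) (he : 1 ≤ e)
    (hfP : ∀ P : Sylow 2 Γ, Nat.card (fixV (V := V) (P : Subgroup Γ)) = 2 ^ f)
    (hfu : ∀ u : Γ, orderOf u = 2 → Nat.card (fixE (V := V) u) = 2 ^ e) : f < e := by
  classical
  haveI : Fact (Nat.Prime 2) := ⟨Nat.prime_two⟩
  refine lt_of_le_of_ne (Nat.le_of_dvd he hfe) fun hef => ?_
  subst hef
  have hfix : ∀ (u : Γ) (P : Sylow 2 Γ), orderOf u = 2 → u ∈ P →
      fixV (V := V) (P : Subgroup Γ) = fixE u := fun u P hu hP =>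
    SetLike.coe_injective (Set.eq_of_subset_of_ncard_le (fun v hv => mem_fixV.mp hv u hP) (by
      rw [← Nat.card_coe_set_eq, ← Nat.card_coe_set_eq]
      exact ((hfu u hu).trans (hfP P).symm).le) (Set.toFinite _))
  -- an involution lies in one Sylow subgroup
  have huniq : ∀ (u : Γ) (P Q : Sylow 2 Γ), orderOf u = 2 → u ∈ P → u ∈ Q → P = Q := by
    intro u P Q hu hP hQ
    obtain ⟨v, hv, hv0⟩ := D.exists_mem_fixV P
    exact D.point_unique hv0 hv (by rwa [hfix u Q hu hQ, ← hfix u P hu hP])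
  have hex : ∀ Q : Sylow 2 Γ, ∃ u ∈ Q, orderOf u = 2 := by
    intro Q
    obtain ⟨u, hu⟩ := exists_involution hns
    obtain ⟨P, hP⟩ := exists_sylow_mem (p := 2) (c := u) (k := 1) (by rw [pow_one, ← hu, pow_orderOf_eq_one])
    obtain ⟨g, rfl⟩ := MulAction.exists_smul_eq Γ P Q
    exact ⟨_, Subgroup.smul_mem_pointwise_smul _ (MulAut.conj g) _ hP, (Cfsg.Lib.Invol.orderOf_conj_eq g u).trans hu⟩
  have hmul : ∀ u : Γ, orderOf u = 2 → u * u = 1 := fun u hu => by
    rw [← sq, ← hu, pow_orderOf_eq_one]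
  have hfixed : ∀ (u : Γ) (P : Sylow 2 Γ), orderOf u = 2 → (u • P = P ↔ u ∈ P) := fun u P hu =>
    ⟨fun h => mem_of_mem_normalizer (k := 1) (by rw [pow_one, ← hu, pow_orderOf_eq_one])
      (Sylow.smul_eq_iff_mem_normalizer.mp h),
      fun h => Sylow.smul_eq_iff_mem_normalizer.mpr (le_normalizer h)⟩
  have hinv : ∀ v v' : Γ, orderOf v = 2 → orderOf v' = 2 → v * (v' * v) * v⁻¹ = (v' * v)⁻¹ := by
    intro v v' hv hv'
    rw [mul_inv_rev, inv_eq_of_mul_eq_one_right (hmul v' hv')]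
    simp [mul_assoc]
    rw [inv_eq_of_mul_eq_one_right (hmul v hv)]
  -- involutions agreeing at one point lie in the same Sylow subgroup
  have hsame : ∀ (v v' : Γ) (a P P' : Sylow 2 Γ), orderOf v = 2 → orderOf v' = 2 → v ∈ P → v' ∈ P' →
      v • a = v' • a → P = P' := by
    intro v v' a P P' hv hv' hP hP' hva
    set h := v' * v with hh
    have hha : h ∈ normalizer ((a : Subgroup Γ) : Set Γ) := Sylow.smul_eq_iff_mem_normalizer.mp (by
      rw [hh, mul_smul, hva, ← mul_smul, hmul v' hv', one_smul])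
    obtain ⟨k, m, hm, hr⟩ := Nat.exists_eq_two_pow_mul_odd (n := orderOf h) (orderOf_pos _).ne'
    have hy : h ^ 2 ^ k = 1 := D.eq_one_of_real_mem_normalizer
      (isReal_of_inverted (inverted_pow (hinv v v' hv hv') _))
      (by rw [orderOf_pow' h (pow_ne_zero k two_ne_zero), hr, Nat.gcd_mul_right_left,
        Nat.mul_div_cancel_left _ (by positivity)]; exact hm) (pow_mem hha _)
    have hzp : ∀ c : Γ, (∃ j : ℕ, c ^ 2 ^ j = 1) → IsPGroup 2 (zpowers c) := fun c ⟨j, hj⟩ => by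
      obtain ⟨i, -, hi⟩ := (Nat.dvd_prime_pow Nat.prime_two).mp (orderOf_dvd_of_pow_eq_one hj)
      exact IsPGroup.of_card (n := i) (by rw [Nat.card_zpowers, hi])
    have hsup : IsPGroup 2 ↥(zpowers h ⊔ zpowers v) := by
      refine (hzp h ⟨k, hy⟩).to_sup_of_normal_left' (hzp v ⟨1, by rw [pow_one, ← hv, pow_orderOf_eq_one]⟩) ?_
      rw [zpowers_le]
      refine Cfsg.Lib.Invol.mem_normalizer_of_map_le ?_
      rw [MonoidHom.map_zpowers, zpowers_le]
      show v * h * v⁻¹ ∈ zpowers h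
      rw [hh, hinv v v' hv hv']
      exact inv_mem (mem_zpowers _)
    obtain ⟨R, hR⟩ := hsup.exists_le_sylow
    have hvR : v ∈ R := hR (mem_sup_right (mem_zpowers v))
    have hv'R : v' ∈ R := by
      have := mul_mem (hR (mem_sup_left (mem_zpowers h))) hvR
      rwa [hh, mul_assoc, hmul v hv, mul_one] at this
    rw [huniq v P R hv hP hvR, huniq v' P' R hv' hP' hv'R]
  -- one involution in each
  have hone : ∀ (v v' : Γ) (P : Sylow 2 Γ), orderOf v = 2 → orderOf v' = 2 → v ∈ P → v' ∈ P → v = v' := by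
    intro v v' P hv hv' hP hP'
    choose rep hrep hrep2 using hex
    have hall : ∀ a : Sylow 2 Γ, v • a = v' • a := by
      intro a
      by_cases haP : a = P
      · subst haP; rw [(hfixed v a hv).mpr hP, (hfixed v' a hv').mpr hP']
      haveI : Fintype {Q : Sylow 2 Γ // Q ≠ a} := Fintype.ofFinite _
      let ψ : {Q : Sylow 2 Γ // Q ≠ a} → {Q : Sylow 2 Γ // Q ≠ a} := fun Q =>
        ⟨rep Q.1 • a, fun h => Q.2 (huniq _ _ _ (hrep2 Q.1) (hrep Q.1) ((hfixed _ _ (hrep2 Q.1)).mp h))⟩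
      have hψ : Function.Surjective ψ := by
        refine Finite.injective_iff_surjective.mp fun Q Q' h => Subtype.ext ?_
        exact hsame _ _ a _ _ (hrep2 Q.1) (hrep2 Q'.1) (hrep Q.1) (hrep Q'.1) (congrArg Subtype.val h :)
      have hP0 : P ≠ a := fun h => haP h.symm
      have key : ∀ x : Γ, orderOf x = 2 → x ∈ P → x • a = rep P • a := by
        intro x hx hxP
        obtain ⟨Q, hQ⟩ := hψ ⟨x • a, fun h => hP0 (huniq _ _ _ hx hxP ((hfixed _ _ hx).mp h))⟩
        have hQa : rep Q.1 • a = x • a := congrArg Subtype.val hQ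
        rw [← hQa, hsame _ _ a _ _ (hrep2 Q.1) hx (hrep Q.1) hxP hQa]
      rw [key v hv hP, key v' hv' hP']
    have hh1 : v * v' = 1 := by
      refine eq_of_smul_eq_smul fun x : V => ?_
      rw [one_smul]
      rcases eq_or_ne x 0 with rfl | hx
      · exact smul_zero _
      obtain ⟨R, hR, -⟩ := D.stab x hx
      obtain ⟨k, hk⟩ := P.isPGroup' ⟨v * v', mul_mem hP hP'⟩
      refine hR _ (mem_of_mem_normalizer (k := k) (by simpa using congrArg Subtype.val hk) ?_)
      exact Sylow.smul_eq_iff_mem_normalizer.mp (by rw [mul_smul, ← hall R, ← mul_smul, hmul v hv, one_smul])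
    rw [eq_inv_of_mul_eq_one_left hh1, inv_eq_of_mul_eq_one_right (hmul v' hv')]
  -- the product of two involutions has odd order
  have hodd : ∀ v v' : Γ, orderOf v = 2 → orderOf v' = 2 → Odd (orderOf (v * v')) := by
    intro v v' hv hv'
    rcases eq_or_ne v v' with rfl | hne
    · rw [hmul v hv, orderOf_one]; exact odd_one
    by_contra hev
    obtain ⟨j, hj⟩ := Nat.not_odd_iff_even.mp hev
    have hpos : 0 < orderOf (v * v') := orderOf_pos _
    have hz : orderOf ((v * v') ^ j) = 2 := by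
      rw [orderOf_pow' _ (by omega : j ≠ 0), hj, Nat.gcd_eq_right ⟨2, by omega⟩]
      rw [show j + j = 2 * j by ring, Nat.mul_div_cancel _ (by omega : 0 < j)]
    obtain ⟨R, hR⟩ := exists_sylow_mem (p := 2) (c := (v * v') ^ j) (k := 1)
      (by rw [pow_one, ← hz, pow_orderOf_eq_one])
    have hpw : ∀ w : Γ, orderOf w = 2 → w * (v * v') * w⁻¹ = (v * v')⁻¹ → w ∈ R := by
      intro w hw hwi
      refine (hfixed w R hw).mp (huniq _ _ _ hz ?_ hR)
      have h1 : w * (v * v') ^ j * w⁻¹ = (v * v') ^ j := by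
        rw [inverted_pow hwi, inv_eq_of_mul_eq_one_right (hmul _ hz)]
      have := Subgroup.smul_mem_pointwise_smul _ (MulAut.conj w) _ hR
      rwa [MulAut.smul_def, MulAut.conj_apply, h1] at this
    refine hne (hone v v' R hv hv' (hpw v hv ?_) (hpw v' hv' (hinv v' v hv' hv)))
    rw [mul_inv_rev, inv_eq_of_mul_eq_one_right (hmul v hv), inv_eq_of_mul_eq_one_right (hmul v' hv'),
      ← mul_assoc, hmul v hv, one_mul]
  -- a real element inverted by all involutions
  obtain ⟨v, hv⟩ := exists_involution hns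
  obtain ⟨x, hx1, hxo, hx⟩ := D.exists_inverted hv
  obtain ⟨n, hd⟩ := exists_realP (isReal_of_inverted hx) hx1 hxo
  set d := x ^ n
  have hall : ∀ w : Γ, orderOf w = 2 → w * d * w⁻¹ = d⁻¹ := by
    intro w hw
    obtain ⟨P, hP⟩ := exists_sylow_mem (p := 2) (c := v) (k := 1) (by rw [pow_one, ← hv, pow_orderOf_eq_one])
    obtain ⟨Q, hQ⟩ := exists_sylow_mem (p := 2) (c := w) (k := 1) (by rw [pow_one, ← hw, pow_orderOf_eq_one])
    obtain ⟨c, hc, rfl⟩ := D.exists_sylow_trans hd P Q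
    have h1 : w = c * v * c⁻¹ := hone _ _ (c • P) hw ((Cfsg.Lib.Invol.orderOf_conj_eq c v).trans hv) hQ
      (Subgroup.smul_mem_pointwise_smul _ (MulAut.conj c) _ hP)
    have hcd : c * d * c⁻¹ = d := by rw [mem_centralizer_singleton_iff.mp hc, mul_inv_cancel_right]
    have hcd' : c⁻¹ * d * c = d := by
      conv_lhs => rw [← hcd]
      simp [mul_assoc]
    calc w * d * w⁻¹ = c * (v * (c⁻¹ * d * c) * v⁻¹) * c⁻¹ := by rw [h1]; simp [mul_assoc]
      _ = c * d⁻¹ * c⁻¹ := by rw [hcd', inverted_pow hx]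
      _ = d⁻¹ := by rw [← conj_inv, hcd]
  set M := closure {z : Γ | ∃ a b : Γ, orderOf a = 2 ∧ orderOf b = 2 ∧ z = a * b} with hM
  haveI : M.Normal := ⟨fun n hn g => by
    induction hn using Subgroup.closure_induction with
    | mem z hz =>
      obtain ⟨a, b, ha, hb, rfl⟩ := hz
      exact subset_closure ⟨g * a * g⁻¹, g * b * g⁻¹, (Cfsg.Lib.Invol.orderOf_conj_eq g a).trans ha,
        (Cfsg.Lib.Invol.orderOf_conj_eq g b).trans hb, by simp [mul_assoc]⟩
    | one => simp
    | mul x y _ _ hx hy => simpa [mul_assoc] using M.mul_mem hx hy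
    | inv x _ hx => simpa [mul_assoc] using M.inv_mem hx⟩
  have hMle : M ≤ centralizer ({d} : Set Γ) := by
    rw [hM, closure_le]
    rintro _ ⟨a, b, ha, hb, rfl⟩
    refine mem_centralizer_singleton_iff.mpr (mul_inv_eq_iff_eq_mul.mp ?_)
    calc a * b * d * (a * b)⁻¹ = a * (b * d * b⁻¹) * a⁻¹ := by simp [mul_assoc]
      _ = d := by rw [hall b hb, ← conj_inv, hall a ha, inv_inv]
  by_cases hMtop : M = ⊤
  · have h1 : v * d = d * v := mem_centralizer_singleton_iff.mp (hMle (hMtop ▸ mem_top v))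
    have h2 := hall v hv
    rw [h1, mul_inv_cancel_right] at h2
    exact sq_ne_one_of_odd hd.ne_one hd.odd (by rw [sq]; exact eq_inv_iff_mul_eq_one.mp h2)
  haveI := hmin M inferInstance hMtop
  obtain ⟨P, hP⟩ := exists_sylow_mem (p := 2) (c := v) (k := 1) (by rw [pow_one, ← hv, pow_orderOf_eq_one])
  have hCN : centralizer ({v} : Set Γ) ≤ normalizer ((P : Subgroup Γ) : Set Γ) := fun g hg => by
    refine Sylow.smul_eq_iff_mem_normalizer.mp (huniq v _ _ hv ?_ hP)
    have := Subgroup.smul_mem_pointwise_smul _ (MulAut.conj g) _ hP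
    rwa [MulAut.smul_def, MulAut.conj_apply, mem_centralizer_singleton_iff.mp hg, mul_inv_cancel_right] at this
  haveI : Group.IsSolvable (centralizer ({v} : Set Γ)) := by
    haveI := isSolvable_normalizer_sylow P
    exact Group.isSolvable_of_isSolvable_injective (f := Subgroup.inclusion hCN) (Subgroup.inclusion_injective hCN)
  refine hns (isSolvable_of_forall_mul M (centralizer ({v} : Set Γ)) fun g => ?_)
  have hgv : orderOf (g * v * g⁻¹) = 2 := (Cfsg.Lib.Invol.orderOf_conj_eq g v).trans hv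
  obtain ⟨s, hs, hsv⟩ := exists_conj_zpowers (hmul v hv) (hmul _ hgv) (hodd _ _ hv hgv)
  refine ⟨s, (zpowers_le.mpr (subset_closure ⟨v, _, hv, hgv, rfl⟩ : _ ∈ M)) hs, s⁻¹ * g, ?_, by simp⟩
  refine mem_centralizer_singleton_iff.mpr (mul_inv_eq_iff_eq_mul.mp ?_)
  calc s⁻¹ * g * v * (s⁻¹ * g)⁻¹ = s⁻¹ * (g * v * g⁻¹) * s := by simp [mul_assoc]
    _ = v := by rw [← hsv]; simp [mul_assoc]

end Cfsg.Lib.RealClass
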