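import Cfsg.Agent.Lib.Coprime.Action
import Cfsg.Agent.Lib.PGroup.Elements
import Cfsg.Agent.S4034
import Cfsg.Agent.S3861
import Cfsg.Agent.S0205

/-!
# Real classes: inverting elements, class sizes, lifting real elements from quotients
-/

set_option autoImplicit false
set_option linter.style.haveILetI false
set_option linter.unusedSectionVars false

namespace Cfsg.Lib.RealClass

open Subgroup

universe u w

variable {G : Type u} [Group G] [Finite G]

/-- The size of the class of `x`. -/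
noncomputable abbrev ncl (x : G) : ℕ := (centralizer ({x} : Set G)).index

omit [Finite G] in
theorem isReal_of_inverted {c x : G} (h : c * x * c⁻¹ = x⁻¹) : IsConj x x⁻¹ :=
  isConj_iff.mpr ⟨c, h⟩

omit [Finite G] in
theorem inverted_pow {c x : G} (h : c * x * c⁻¹ = x⁻¹) (n : ℕ) : c * x ^ n * c⁻¹ = (x ^ n)⁻¹ := by
  rw [← conj_pow, h, inv_pow]

omit [Finite G] in
theorem conj_inv_pow {c x : G} (h : c * x * c⁻¹ = x⁻¹) :
    ∀ j : ℕ, c ^ (2 * j) * x * (c ^ (2 * j))⁻¹ = x ∧ c ^ (2 * j + 1) * x * (c ^ (2 * j + 1))⁻¹ = x⁻¹ := by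
  intro j
  have h2 : ∀ y : G, c * y * c⁻¹ = x⁻¹ → y = x := fun y hy => by
    rw [← h] at hy; exact mul_left_cancel (mul_right_cancel hy)
  have h3 : c * x⁻¹ * c⁻¹ = x := by rw [← conj_inv, h, inv_inv]
  induction j with
  | zero => simpa using h
  | succ j ih =>
    have e1 : c ^ (2 * (j + 1)) * x * (c ^ (2 * (j + 1)))⁻¹ = x := by
      rw [show 2 * (j + 1) = (2 * j + 1) + 1 by ring, pow_succ']
      calc c * c ^ (2 * j + 1) * x * (c * c ^ (2 * j + 1))⁻¹
          = c * (c ^ (2 * j + 1) * x * (c ^ (2 * j + 1))⁻¹) * c⁻¹ := by simp [mul_assoc]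
        _ = x := by rw [ih.2, h3]
    refine ⟨e1, ?_⟩
    rw [pow_succ']
    calc c * c ^ (2 * (j + 1)) * x * (c * c ^ (2 * (j + 1)))⁻¹
        = c * (c ^ (2 * (j + 1)) * x * (c ^ (2 * (j + 1)))⁻¹) * c⁻¹ := by simp [mul_assoc]
      _ = x⁻¹ := by rw [e1, h]

/-- An element inverting `x` may be replaced by a `2`-element in the group it generates. -/
theorem exists_two_part {c x : G} (h : c * x * c⁻¹ = x⁻¹) :
    ∃ m k : ℕ, Odd m ∧ (c ^ m) ^ 2 ^ k = 1 ∧ c ^ m * x * (c ^ m)⁻¹ = x⁻¹ := by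
  obtain ⟨k, m, hm, hr⟩ := Nat.exists_eq_two_pow_mul_odd (n := orderOf c) (orderOf_pos c).ne'
  refine ⟨m, k, hm, ?_, ?_⟩
  · rw [← pow_mul, mul_comm, ← hr, pow_orderOf_eq_one]
  · obtain ⟨j, rfl⟩ := hm
    exact (conj_inv_pow h j).2

theorem exists_two_inverter {x : G} (h : IsConj x x⁻¹) :
    ∃ c : G, ∃ k : ℕ, c ^ 2 ^ k = 1 ∧ c * x * c⁻¹ = x⁻¹ := by
  obtain ⟨g, hg⟩ := isConj_iff.mp h
  obtain ⟨m, k, -, h1, h2⟩ := exists_two_part hg
  exact ⟨g ^ m, k, h1, h2⟩

theorem exists_sylow_mem {p : ℕ} [Fact p.Prime] {c : G} {k : ℕ} (hc : c ^ p ^ k = 1) :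
    ∃ P : Sylow p G, c ∈ P := by
  have h : IsPGroup p (zpowers c) := by
    obtain ⟨i, -, hi⟩ := (Nat.dvd_prime_pow (Fact.out : p.Prime)).mp (orderOf_dvd_of_pow_eq_one hc)
    exact IsPGroup.of_card (n := i) (by rw [Nat.card_zpowers, hi])
  obtain ⟨P, hP⟩ := h.exists_le_sylow
  exact ⟨P, hP (mem_zpowers c)⟩

omit [Group G] in
/-- A map of `2`-power order on a set of odd size has a fixed point. -/
theorem exists_fixed_of_odd {S : Set G} (hS : Odd S.ncard) (f : G → G) (hmaps : ∀ a ∈ S, f a ∈ S)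
    {k : ℕ} (hf : ∀ a ∈ S, f^[2 ^ k] a = a) : ∃ a ∈ S, f a = a := by
  classical
  haveI : Fintype S := Fintype.ofFinite S
  let g : S → S := fun a => ⟨f a, hmaps a a.2⟩
  have hg : ∀ (n : ℕ) (a : S), ((g^[n] a : S) : G) = f^[n] a := by
    intro n a
    induction n with
    | zero => rfl
    | succ n ih => rw [Function.iterate_succ_apply', Function.iterate_succ_apply', ← ih]
  have hinv : g^[2 ^ k] = id := funext fun a => Subtype.ext (by rw [hg, hf a a.2]; rfl)
  have hinj : Function.Injective g := by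
    intro a b hab
    have h1 := congrFun hinv a
    have h2 := congrFun hinv b
    obtain ⟨n, hn⟩ : ∃ n, 2 ^ k = n + 1 :=
      Nat.exists_eq_succ_of_ne_zero (pow_ne_zero _ two_ne_zero)
    rw [hn, Function.iterate_succ_apply] at h1 h2
    rw [hab] at h1
    exact h1.symm.trans h2
  let σ : Equiv.Perm S := Equiv.ofBijective g (Finite.injective_iff_bijective.mp hinj)
  have hσ : σ ^ 2 ^ k = 1 := by
    refine Equiv.ext fun a => ?_
    rw [Equiv.Perm.coe_pow]
    exact congrFun hinv a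
  have hcard : ¬ 2 ∣ Fintype.card S := by
    rw [← Nat.card_eq_fintype_card, Nat.card_coe_set_eq]
    exact Nat.two_dvd_ne_zero.mpr (Nat.odd_iff.mp hS)
  obtain ⟨a, ha⟩ := Equiv.Perm.exists_fixed_point_of_prime (p := 2) hcard hσ
  exact ⟨a, a.2, congrArg Subtype.val ha⟩

/-- An odd set mapped into itself by `a ↦ c a⁻¹ c⁻¹`, `c` a `2`-element, contains an element
inverted by `c`. -/
theorem exists_inverted_mem {S : Set G} (hS : Odd S.ncard) {c : G} {k : ℕ} (hc : c ^ 2 ^ k = 1)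
    (h : ∀ a ∈ S, c * a⁻¹ * c⁻¹ ∈ S) : ∃ a ∈ S, c * a * c⁻¹ = a⁻¹ := by
  have h2 : ∀ (j : ℕ) (a : G), (fun a => c * a⁻¹ * c⁻¹)^[2 * j] a = c ^ (2 * j) * a * (c ^ (2 * j))⁻¹ := by
    intro j a
    induction j with
    | zero => simp
    | succ j ih =>
      rw [show 2 * (j + 1) = (2 * j) + 1 + 1 by ring, Function.iterate_succ_apply',
        Function.iterate_succ_apply', ih, pow_succ', pow_succ']
      simp [mul_assoc]
  have hc' : c ^ 2 ^ (k + 1) = 1 := by rw [pow_succ, pow_mul, hc, one_pow]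
  obtain ⟨a, ha, hfix⟩ := exists_fixed_of_odd hS (fun a => c * a⁻¹ * c⁻¹) h (k := k + 1) fun a _ => by
    rw [pow_succ', h2, ← pow_succ', hc', one_mul, inv_one, mul_one]
  refine ⟨a, ha, ?_⟩
  conv_rhs => rw [← hfix]
  simp [mul_assoc]

theorem ncl_eq_ncard (x : G) : ncl x = (conjugatesOf x).ncard := by
  have h1 : MulAction.orbit (ConjAct G) x = conjugatesOf x := by
    ext y
    exact ConjAct.mem_orbit_conjAct.trans isConj_comm
  rw [← h1, ← MulAction.index_stabilizer, ConjAct.stabilizer_eq_centralizer]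
  rfl

theorem ncl_pos (x : G) : 0 < ncl x := Nat.pos_of_ne_zero index_ne_zero_of_finite

theorem mem_center_of_ncl_eq_one {x : G} (h : ncl x = 1) : x ∈ center G := by
  rw [mem_center_iff]
  intro g
  have hg : g ∈ centralizer ({x} : Set G) := by rw [index_eq_one.mp h]; trivial
  exact mem_centralizer_singleton_iff.mp hg

/-- A real element with class of odd size has square one. -/
theorem sq_eq_one_of_odd_ncl {x : G} (hx : IsConj x x⁻¹) (hn : Odd (ncl x)) : x ^ 2 = 1 := by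
  rw [ncl_eq_ncard] at hn
  obtain ⟨a, ha, h1⟩ := exists_inverted_mem hn (c := 1) (k := 0) (one_pow _) fun a ha => by
    obtain ⟨g, hg⟩ := isConj_iff.mp (ha : IsConj x a)
    show IsConj x _
    refine hx.trans (isConj_iff.mpr ⟨g, ?_⟩)
    rw [one_mul, inv_one, mul_one, ← hg, conj_inv]
  obtain ⟨g, hg⟩ := isConj_iff.mp (ha : IsConj x a)
  rw [one_mul, inv_one, mul_one] at h1
  have ha2 : a ^ 2 = 1 := by rw [sq]; exact eq_inv_iff_mul_eq_one.mp h1
  rw [← hg, conj_pow] at ha2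
  have := congrArg (fun z => g⁻¹ * z * g) ha2
  simpa [mul_assoc] using this

omit [Finite G] in
theorem sq_ne_one_of_odd {x : G} (hx : x ≠ 1) (ho : Odd (orderOf x)) : x ^ 2 ≠ 1 := fun h =>
  hx (orderOf_eq_one_iff.mp (Nat.eq_one_of_dvd_coprimes (Nat.coprime_two_left.mpr ho)
    (orderOf_dvd_of_pow_eq_one h) dvd_rfl))

theorem two_dvd_ncl {x : G} (hx : IsConj x x⁻¹) (hx1 : x ≠ 1) (ho : Odd (orderOf x)) : 2 ∣ ncl x := by
  by_contra h
  exact sq_ne_one_of_odd hx1 ho
    (sq_eq_one_of_odd_ncl hx (Nat.odd_iff.mpr (Nat.two_dvd_ne_zero.mp h)))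

/-- Some power of a nontrivial real element of odd order is real of odd prime order. -/
theorem exists_prime_real {x : G} (hx : IsConj x x⁻¹) (hx1 : x ≠ 1) (ho : Odd (orderOf x)) :
    ∃ n : ℕ, (orderOf (x ^ n)).Prime ∧ orderOf (x ^ n) ≠ 2 ∧ IsConj (x ^ n) (x ^ n)⁻¹ := by
  obtain ⟨q, hq, hqd⟩ := Nat.exists_prime_and_dvd (n := orderOf x) (by rwa [Ne, orderOf_eq_one_iff])
  obtain ⟨g, hg⟩ := isConj_iff.mp hx
  refine ⟨orderOf x / q, ?_, ?_, isReal_of_inverted (inverted_pow hg _)⟩ <;>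
    rw [orderOf_pow_orderOf_div (orderOf_pos x).ne' hqd]
  · exact hq
  · rintro rfl
    exact (Nat.not_even_iff_odd.mpr ho) (even_iff_two_dvd.mpr hqd)

variable {H : Type w} [Group H] [Finite H]

theorem ncl_map_dvd (f : G →* H) (hf : Function.Surjective f) (x : G) : ncl (f x) ∣ ncl x := by
  refine (Subgroup.index_dvd_of_le ?_).trans (Subgroup.index_map_dvd _ hf)
  rintro _ ⟨z, hz, rfl⟩
  exact mem_centralizer_singleton_iff.2
    (by rw [← map_mul, ← map_mul, mem_centralizer_singleton_iff.1 hz])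

omit [Finite G] [Finite H] in
theorem ncard_fibre (f : G →* H) (Q : Subgroup G) {a : G} (ha : a ∈ Q) :
    {z : G | z ∈ Q ∧ f z = f a}.ncard = Nat.card ↥(Q ⊓ f.ker) := by
  rw [← Nat.card_coe_set_eq]
  refine (Nat.card_congr
    { toFun := fun z => ⟨a * (z : G), Q.mul_mem ha z.2.1, by
        rw [map_mul, (MonoidHom.mem_ker).1 z.2.2, mul_one]⟩
      invFun := fun z => ⟨a⁻¹ * (z : G), Q.mul_mem (Q.inv_mem ha) z.2.1, by
        show f (a⁻¹ * (z : G)) = 1
        rw [map_mul, map_inv, z.2.2, inv_mul_cancel]⟩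
      left_inv := fun z => Subtype.ext (inv_mul_cancel_left a (z : G))
      right_inv := fun z => Subtype.ext (mul_inv_cancel_left a (z : G)) }).symm

/-- Real elements lift along a map with kernel of odd order. -/
theorem exists_real_lift (f : G →* H) (hf : Function.Surjective f) (hker : Odd (Nat.card f.ker))
    {d : H} (hd : IsConj d d⁻¹) : ∃ x : G, f x = d ∧ IsConj x x⁻¹ := by
  obtain ⟨e, he⟩ := isConj_iff.mp hd
  obtain ⟨g, rfl⟩ := hf e
  obtain ⟨k, m, hm, hr⟩ := Nat.exists_eq_two_pow_mul_odd (n := orderOf g) (orderOf_pos g).ne'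
  have hc : (g ^ m) ^ 2 ^ k = 1 := by rw [← pow_mul, mul_comm, ← hr, pow_orderOf_eq_one]
  have hinv : f (g ^ m) * d * (f (g ^ m))⁻¹ = d⁻¹ := by
    rw [map_pow]; obtain ⟨j, rfl⟩ := hm; exact (conj_inv_pow he j).2
  obtain ⟨a, rfl⟩ := hf d
  obtain ⟨x, hx, hxi⟩ := exists_inverted_mem (S := {z : G | z ∈ (⊤ : Subgroup G) ∧ f z = f a})
    (by rwa [ncard_fibre f ⊤ (mem_top a), top_inf_eq]) hc fun z hz => ⟨mem_top _, by
      rw [map_mul, map_mul, map_inv, map_inv, hz.2, ← conj_inv, hinv, inv_inv]⟩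
  exact ⟨x, hx.2, isReal_of_inverted hxi⟩

/-- Real elements of odd prime order lift to real elements of odd order. -/
theorem exists_real_lift_prime (f : G →* H) (hf : Function.Surjective f) {d : H}
    (hq : (orderOf d).Prime) (hq2 : orderOf d ≠ 2) (hd : IsConj d d⁻¹) :
    ∃ x : G, f x = d ∧ IsConj x x⁻¹ ∧ Odd (orderOf x) := by
  set q := orderOf d with hqdef
  haveI : Fact q.Prime := ⟨hq⟩
  obtain ⟨e, he⟩ := isConj_iff.mp hd
  obtain ⟨g, rfl⟩ := hf e
  set X := (zpowers d).comap f with hX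
  have hgX : g ∈ normalizer (X : Set G) := by
    refine Cfsg.Lib.Invol.mem_normalizer_of_map_le ?_
    rintro _ ⟨z, hz, rfl⟩
    obtain ⟨i, hi⟩ := hz
    refine ⟨-i, ?_⟩
    show d ^ (-i) = f (g * z * g⁻¹)
    rw [map_mul, map_mul, map_inv, ← show d ^ i = f z from hi, ← conj_zpow, he, inv_zpow, zpow_neg]
  obtain ⟨P⟩ : Nonempty (Sylow q X) := inferInstance
  obtain ⟨P', hP'⟩ := Cfsg.Lib.Coprime.exists_sylow_eq_conj P hgX
  obtain ⟨x, hxX, hx⟩ := Cfsg.Lib.Coprime.exists_sylow_conj P' P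
  set Q := (P : Subgroup X).map X.subtype with hQ
  rw [hP', Cfsg.Lib.Coprime.map_conj_conj] at hx
  have hfx : f x ∈ zpowers d := hxX
  have he' : f (x * g) * d * (f (x * g))⁻¹ = d⁻¹ := by
    obtain ⟨i, hi⟩ := hfx
    rw [map_mul]
    calc f x * f g * d * (f x * f g)⁻¹ = f x * (f g * d * (f g)⁻¹) * (f x)⁻¹ := by simp [mul_assoc]
      _ = d⁻¹ := by
        rw [he, ← show d ^ i = f x from hi, ((Commute.refl d).zpow_left i).inv_right.eq,
          mul_inv_cancel_right]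
  obtain ⟨k, m, hm, hr⟩ := Nat.exists_eq_two_pow_mul_odd (n := orderOf (x * g)) (orderOf_pos _).ne'
  set c := (x * g) ^ m with hcdef
  have hc : c ^ 2 ^ k = 1 := by rw [hcdef, ← pow_mul, mul_comm, ← hr, pow_orderOf_eq_one]
  have hinv : f c * d * (f c)⁻¹ = d⁻¹ := by
    rw [hcdef, map_pow]; obtain ⟨j, rfl⟩ := hm; exact (conj_inv_pow he' j).2
  have hxgN : x * g ∈ normalizer (Q : Set G) := Cfsg.Lib.Invol.mem_normalizer_of_map_le hx.ge
  have hcN : c ∈ normalizer (Q : Set G) := pow_mem hxgN _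
  -- the Sylow subgroup covers `⟨d⟩`
  obtain ⟨a, haQ, had⟩ : ∃ a ∈ Q, f a = d := by
    obtain ⟨b, rfl⟩ := hf d
    have hbX : b ∈ X := mem_zpowers (f b)
    obtain ⟨j, l, hl, hbl⟩ : ∃ j l : ℕ, ¬ q ∣ l ∧ orderOf b = q ^ j * l :=
      ⟨_, _, Nat.not_dvd_ordCompl hq (orderOf_pos b).ne', (Nat.ordProj_mul_ordCompl_eq_self _ q).symm⟩
    obtain ⟨R, hR⟩ := exists_sylow_mem (G := X) (p := q) (c := (⟨b, hbX⟩ : X) ^ l) (k := j) (by
      rw [← pow_mul, mul_comm, ← hbl]
      exact Subtype.ext (by simp [pow_orderOf_eq_one]))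
    obtain ⟨y, hy⟩ := MulAction.exists_smul_eq X R P
    have h1 : y * ((⟨b, hbX⟩ : X) ^ l) * y⁻¹ ∈ P := by
      rw [← hy]
      exact Subgroup.smul_mem_pointwise_smul _ (MulAut.conj y) _ hR
    have hcop : l.Coprime (orderOf (f b)) := by
      rw [← hqdef]; exact ((hq.coprime_iff_not_dvd).mpr hl).symm
    obtain ⟨i, hi⟩ := exists_pow_eq_self_of_coprime hcop
    refine ⟨((y * ((⟨b, hbX⟩ : X) ^ l) * y⁻¹) ^ i : X), ⟨_, pow_mem h1 i, rfl⟩, ?_⟩
    obtain ⟨s, hs⟩ := (y.2 : f (y : G) ∈ zpowers (f b))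
    simp only [SubgroupClass.coe_pow, Subgroup.coe_mul, Subgroup.coe_inv, map_pow, map_mul, map_inv]
    rw [← show f b ^ s = f (y : G) from hs, ((Commute.refl (f b)).zpow_left s).pow_right l |>.eq,
      mul_inv_cancel_right, hi]
  have hQp : IsPGroup q Q := P.isPGroup'.map _
  have hqodd : Odd q := hq.odd_of_ne_two hq2
  obtain ⟨z, hz, hzi⟩ := exists_inverted_mem (S := {z : G | z ∈ Q ∧ f z = f a}) (by
      rw [ncard_fibre f Q haQ]
      obtain ⟨i, hi⟩ := IsPGroup.iff_card.mp (hQp.to_le (inf_le_left : Q ⊓ f.ker ≤ Q))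
      rw [hi]; exact hqodd.pow) hc fun z hz => by
    refine ⟨(mem_normalizer_iff.mp hcN _).mp (Q.inv_mem hz.1), ?_⟩
    rw [map_mul, map_mul, map_inv, map_inv, hz.2, had]
    calc f c * d⁻¹ * (f c)⁻¹ = (f c * d * (f c)⁻¹)⁻¹ := by simp [mul_assoc]
      _ = d := by rw [hinv, inv_inv]
  refine ⟨z, hz.2.trans had, isReal_of_inverted hzi, ?_⟩
  obtain ⟨i, hi⟩ := hQp ⟨z, hz.1⟩
  exact (hqodd.pow (n := i)).of_dvd_nat
    (orderOf_dvd_of_pow_eq_one (by simpa using congrArg Subtype.val hi))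

omit [Finite G] in
/-- Two involutions with product of odd order are conjugate by a power of the product. -/
theorem exists_conj_zpowers {a b : G} (ha : a * a = 1) (hb : b * b = 1) (h : Odd (orderOf (a * b))) :
    ∃ s ∈ zpowers (a * b), s * a * s⁻¹ = b := by
  obtain ⟨j, hj⟩ := h
  have hinv : a * (a * b) * a⁻¹ = (a * b)⁻¹ := by
    rw [mul_inv_rev, inv_eq_of_mul_eq_one_right hb, inv_eq_of_mul_eq_one_right ha, ← mul_assoc, ha,
      one_mul]
  refine ⟨((a * b) ^ (j + 1))⁻¹, inv_mem (pow_mem (mem_zpowers _) _), ?_⟩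
  have h1 : a * (a * b) ^ (j + 1) = ((a * b) ^ (j + 1))⁻¹ * a := by
    rw [← inverted_pow hinv]; simp [mul_assoc]
  have h2 : (a * b) ^ (j + 1) * (a * b) ^ (j + 1) = a * b := by
    rw [← pow_add, show j + 1 + (j + 1) = (2 * j + 1) + 1 by ring, pow_succ, ← hj, pow_orderOf_eq_one,
      one_mul]
  rw [inv_inv, ← h1, mul_assoc, h2, ← mul_assoc, ha, one_mul]

/-- A normal Sylow `2`-subgroup makes a finite group solvable. -/
theorem isSolvable_of_sylow_two_normal (P : Sylow 2 G) [(P : Subgroup G).Normal] :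
    Group.IsSolvable G := by
  haveI : Group.IsNilpotent P := P.isPGroup'.isNilpotent
  haveI : Group.IsSolvable (G ⧸ (P : Subgroup G)) := Cfsg.Agent.S0205.result (by
    rw [← Subgroup.index_eq_card]
    exact Nat.odd_iff.mpr (Nat.two_dvd_ne_zero.mp P.not_dvd_index))
  exact Group.isSolvable_of_ker_le_range (P : Subgroup G).subtype (QuotientGroup.mk' (P : Subgroup G))
    (by rw [QuotientGroup.ker_mk', Subgroup.range_subtype])

theorem isSolvable_normalizer_sylow (P : Sylow 2 G) :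
    Group.IsSolvable (normalizer ((P : Subgroup G) : Set G)) := by
  haveI : ((P.subtype le_normalizer : Sylow 2 (normalizer ((P : Subgroup G) : Set G))) :
      Subgroup (normalizer ((P : Subgroup G) : Set G))).Normal := by
    rw [Sylow.coe_subtype]; exact normal_in_normalizer
  exact isSolvable_of_sylow_two_normal (P.subtype le_normalizer)

/-- A normal subgroup with solvable image of a complementary part gives solvability. -/
theorem isSolvable_of_forall_mul (M : Subgroup G) [M.Normal] [Group.IsSolvable M] (K : Subgroup G)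
    [Group.IsSolvable K] (h : ∀ g : G, ∃ m ∈ M, ∃ k ∈ K, g = m * k) : Group.IsSolvable G := by
  haveI : Group.IsSolvable (G ⧸ M) := by
    refine Group.isSolvable_of_surjective (f := (QuotientGroup.mk' M).comp K.subtype) fun z => ?_
    obtain ⟨g, rfl⟩ := QuotientGroup.mk'_surjective M z
    obtain ⟨m, hm, k, hk, rfl⟩ := h g
    exact ⟨⟨k, hk⟩, by simp [(QuotientGroup.eq_one_iff m).mpr hm]⟩
  exact Group.isSolvable_of_ker_le_range M.subtype (QuotientGroup.mk' M)
    (by rw [QuotientGroup.ker_mk', Subgroup.range_subtype])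

end Cfsg.Lib.RealClass
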