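import Cfsg.Prelude.Def_CaseTheorems
import Cfsg.Agent.Lib.RealClass.Big
import Cfsg.Agent.Lib.Core.Cores

/-!
# Separated real class sizes force solvability
-/

set_option autoImplicit false
set_option linter.style.haveILetI false
set_option linter.unusedSectionVars false

namespace Cfsg.Lib.RealClass

open Subgroup

universe u

variable {G : Type u} [Group G] [Finite G] {π : Set ℕ}

/-- No real class size has prime divisors both inside and outside `π`. -/
def Sep (π : Set ℕ) (G : Type u) [Group G] : Prop :=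
  ∀ x : G, IsConj x x⁻¹ → (∀ p : ℕ, p.Prime → p ∣ ncl x → p ∈ π) ∨ (∀ p : ℕ, p.Prime → p ∣ ncl x → p ∉ π)

/-- A nontrivial class size with all prime divisors in `π`. -/
def PiClass (π : Set ℕ) (x : G) : Prop := 1 < ncl x ∧ ∀ p : ℕ, p.Prime → p ∣ ncl x → p ∈ π

theorem PiClass.odd (h2 : 2 ∉ π) {x : G} (h : PiClass π x) : Odd (ncl x) :=
  Nat.odd_iff.mpr (Nat.two_dvd_ne_zero.mp fun hd => h2 (h.2 2 Nat.prime_two hd))

theorem PiClass.not_mem_center {x : G} (h : PiClass π x) : x ∉ center G := fun hx => by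
  have : ncl x = 1 := index_eq_one.mpr (eq_top_iff.mpr fun g _ =>
    mem_centralizer_singleton_iff.mpr (mem_center_iff.mp hx g))
  have := h.1
  omega

theorem isConj_inv_of_sq {x : G} (h : x * x = 1) : IsConj x x⁻¹ := by
  rw [inv_eq_of_mul_eq_one_right h]

theorem notPi_of_two_dvd (h2 : 2 ∉ π) (hsep : Sep π G) {x : G} (hx : IsConj x x⁻¹) (hd : 2 ∣ ncl x) :
    ∀ p : ℕ, p.Prime → p ∣ ncl x → p ∉ π :=
  (hsep x hx).resolve_left fun h => h2 (h 2 Nat.prime_two hd)

theorem PiClass.coprime {x y : G} (hx : PiClass π x) (hy : ∀ p : ℕ, p.Prime → p ∣ ncl y → p ∉ π) :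
    (ncl y).Coprime (ncl x) :=
  Nat.coprime_of_dvd fun p hp hpy hpx => hy p hp hpy (hx.2 p hp hpx)

/-- The centraliser of an involution with `π`-class is `2`-closed. -/
theorem exists_sylow_centralizer (h2 : 2 ∉ π) (hsep : Sep π G) {u : G} (hu : u * u = 1)
    (hpi : PiClass π u) : ∃ S : Sylow 2 G, (S : Subgroup G) ≤ centralizer ({u} : Set G) ∧
      centralizer ({u} : Set G) ≤ normalizer ((S : Subgroup G) : Set G) := by
  haveI : Fact (Nat.Prime 2) := ⟨Nat.prime_two⟩
  set C := centralizer ({u} : Set G) with hC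
  have hodd := hpi.odd h2
  obtain ⟨S, hS⟩ := Cfsg.Agent.S3933.exists_sylow_le (p := 2) C
    (Nat.two_dvd_ne_zero.mpr (Nat.odd_iff.mp hodd))
  refine ⟨S, hS, ?_⟩
  by_contra hnle
  obtain ⟨y, hy1, hyo, hy⟩ := Cfsg.Agent.S3861.exists_real_odd (S.subtype hS) fun hn => hnle (by
    rw [Sylow.coe_subtype] at hn
    exact (normal_subgroupOf_iff_le_normalizer hS).mp hn)
  obtain ⟨c, hc⟩ := isConj_iff.mp hy
  have hyodd : Odd (orderOf (y : G)) := by rwa [Subgroup.orderOf_coe]
  have hyne : (y : G) ≠ 1 := fun h => hy1 (Subtype.ext h)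
  have hyu : Commute (y : G) u := mem_centralizer_singleton_iff.mp y.2
  have hcu : Commute (c : G) u := mem_centralizer_singleton_iff.mp c.2
  have hc' : (c : G) * y * (c : G)⁻¹ = (y : G)⁻¹ := congrArg Subtype.val hc
  have hreal : IsConj (u * (y : G)) (u * (y : G))⁻¹ := isConj_iff.mpr ⟨c, by
    calc (c : G) * (u * y) * (c : G)⁻¹ = u * ((c : G) * y * (c : G)⁻¹) := by
          rw [← mul_assoc, hcu.eq]; simp [mul_assoc]
      _ = (u * y)⁻¹ := by rw [hc', mul_inv_rev, inv_eq_of_mul_eq_one_right hu, hyu.inv_left.eq]⟩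
  have huy : (u * (y : G)) ^ orderOf (y : G) = u := by
    obtain ⟨j, hj⟩ := hyodd
    rw [hyu.symm.mul_pow, pow_orderOf_eq_one, mul_one, hj, pow_succ, pow_mul, sq, hu, one_pow, one_mul]
  have hle : centralizer ({u * (y : G)} : Set G) ≤ C ⊓ centralizer ({(y : G)} : Set G) := by
    intro g hg
    have h1 : Commute g (u * (y : G)) := mem_centralizer_singleton_iff.mp hg
    have h3 : Commute g u := huy ▸ h1.pow_right _
    refine ⟨mem_centralizer_singleton_iff.mpr h3.eq, mem_centralizer_singleton_iff.mpr ?_⟩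
    have h4 : Commute g (u * (u * (y : G))) := h3.mul_right h1
    rw [← mul_assoc, hu, one_mul] at h4
    exact h4.eq
  obtain ⟨p, hp, hpu⟩ := Nat.exists_prime_and_dvd (n := ncl u) (by have := hpi.1; omega)
  have hdy : 2 ∣ ncl (u * (y : G)) := (two_dvd_ncl (isReal_of_inverted hc') hyne hyodd).trans
    (index_dvd_of_le (hle.trans inf_le_right))
  exact notPi_of_two_dvd h2 hsep hreal hdy p hp (hpu.trans (index_dvd_of_le (hle.trans inf_le_left)))
    (hpi.2 p hp hpu)

theorem mem_centralizer_of_conj_eq_center_mul {u g z : G} (hu : Odd (ncl u)) (hz : z ∈ center G)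
    (hz2 : z * z = 1) (h : g * u * g⁻¹ = z * u) : g ∈ centralizer ({u} : Set G) := by
  have hzc : ∀ x : G, x * z = z * x := mem_center_iff.mp hz
  rw [ncl_eq_ncard] at hu
  obtain ⟨a, -, ha⟩ := exists_fixed_of_odd hu (fun a => z * a) (k := 1)
    (fun a ha => by
      obtain ⟨x, hx⟩ := isConj_iff.mp (ha : IsConj u a)
      refine (isConj_iff.mpr ⟨x * g, ?_⟩ : IsConj u (z * a))
      calc x * g * u * (x * g)⁻¹ = x * (g * u * g⁻¹) * x⁻¹ := by simp [mul_assoc]
        _ = z * a := by rw [h, ← hx, ← mul_assoc x z u, hzc x]; simp [mul_assoc])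
    (fun a _ => by
      rw [pow_one, Function.iterate_succ_apply', Function.iterate_one, ← mul_assoc, hz2, one_mul])
  have hz1 : z = 1 := mul_eq_right.mp ha
  rw [hz1, one_mul] at h
  exact mem_centralizer_singleton_iff.mpr (mul_inv_eq_iff_eq_mul.mp h)

theorem index_inf_eq_mul {A B : Subgroup G} (h : A.index.Coprime B.index) :
    (A ⊓ B).index = A.index * B.index :=
  le_antisymm Subgroup.index_inf_le (Nat.le_of_dvd (Nat.pos_of_ne_zero Subgroup.index_ne_zero_of_finite)
    (h.mul_dvd_of_dvd_of_dvd (Subgroup.index_dvd_of_le inf_le_left) (Subgroup.index_dvd_of_le inf_le_right)))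

section CoreTrivial

variable (h2 : 2 ∉ π) (hsep : Sep π G) (hO : Cfsg.pPrimeCore 2 G = ⊥) {t : G} (ht : orderOf t = 2)
  (hpi : PiClass π t)
include h2 hsep hO ht hpi

theorem commute_conjugates_of_core_trivial (a b : G) : Commute (a * t * a⁻¹) (b * t * b⁻¹) := by
  haveI : Fact (Nat.Prime 2) := ⟨Nat.prime_two⟩
  have htt : t * t = 1 := by rw [← sq, ← ht, pow_orderOf_eq_one]
  -- `t` lies in the `2`-core
  have htO : t ∈ Cfsg.pCore 2 G := by
    by_contra htO
    obtain ⟨h, hh1, hho, hh⟩ := Cfsg.Lib.Invol.exists_inverted_odd ht fun N hN hN2 htN =>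
      htO (Cfsg.Lib.Core.le_pCore' hN hN2 htN)
    have hcop := hpi.coprime (notPi_of_two_dvd h2 hsep (isReal_of_inverted hh)
      (two_dvd_ncl (isReal_of_inverted hh) hh1 hho))
    have hinv : ∀ g : G, (g * t * g⁻¹) * h * (g * t * g⁻¹)⁻¹ = h⁻¹ := by
      intro g
      obtain ⟨c, hc, s, hs, rfl⟩ := Cfsg.Agent.S3933.exists_mul_of_coprime_index
        (centralizer ({h} : Set G)) (centralizer ({t} : Set G)) hcop g
      have hch : c⁻¹ * h * c = h := by
        rw [mul_assoc, ← mem_centralizer_singleton_iff.mp hc, inv_mul_cancel_left]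
      have hst : s * t * s⁻¹ = t := by rw [mem_centralizer_singleton_iff.mp hs, mul_inv_cancel_right]
      calc c * s * t * (c * s)⁻¹ * h * (c * s * t * (c * s)⁻¹)⁻¹
          = c * ((s * t * s⁻¹) * (c⁻¹ * h * c) * (s * t * s⁻¹)⁻¹) * c⁻¹ := by simp [mul_assoc]
        _ = c * h⁻¹ * c⁻¹ := by rw [hst, hch, hh]
        _ = (c * h * c⁻¹)⁻¹ := by simp [mul_assoc]
        _ = h⁻¹ := by rw [mem_centralizer_singleton_iff.mp hc, mul_inv_cancel_right]
    have hinv' : ∀ g k : G, (k * t * k⁻¹) * (g * h * g⁻¹) * (k * t * k⁻¹)⁻¹ = (g * h * g⁻¹)⁻¹ := by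
      intro g k
      have := congrArg (fun z => g * z * g⁻¹) (hinv (g⁻¹ * k))
      simpa [mul_assoc] using this
    have hcomm : ∀ x ∈ Group.conjugatesOfSet ({h} : Set G), ∀ y ∈ Group.conjugatesOfSet ({h} : Set G),
        Commute x y := by
      intro x hx y hy
      obtain ⟨x₀, hx₀, hx'⟩ := Group.mem_conjugatesOfSet_iff.mp hx
      obtain ⟨y₀, hy₀, hy'⟩ := Group.mem_conjugatesOfSet_iff.mp hy
      rw [Set.mem_singleton_iff.mp hx₀] at hx'
      rw [Set.mem_singleton_iff.mp hy₀] at hy'
      obtain ⟨g, rfl⟩ := isConj_iff.mp hx'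
      obtain ⟨g', rfl⟩ := isConj_iff.mp hy'
      obtain ⟨j, hj⟩ := hho
      have hs2 : h ^ (j + 1) * h ^ (j + 1) = h := by
        rw [← pow_add, show j + 1 + (j + 1) = (2 * j + 1) + 1 by ring, pow_succ, ← hj, pow_orderOf_eq_one, one_mul]
      set r := g * h ^ (j + 1) * g⁻¹ with hr
      have hx2 : g * h * g⁻¹ = r * r := by
        conv_lhs => rw [← hs2]
        simp [hr, mul_assoc]
      have hprod : g * h * g⁻¹ = (r * (g * t * g⁻¹) * r⁻¹) * (g * t * g⁻¹) := by
        have hti : (g * t * g⁻¹) * r⁻¹ * (g * t * g⁻¹) = r := by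
          have h1 : t * h ^ (j + 1) * t⁻¹ = (h ^ (j + 1))⁻¹ := inverted_pow hh _
          calc (g * t * g⁻¹) * r⁻¹ * (g * t * g⁻¹) = g * (t * (h ^ (j + 1))⁻¹ * t) * g⁻¹ := by
                simp [hr, mul_assoc]
            _ = r := by
              rw [← h1, hr]
              simp [mul_assoc, htt, inv_eq_of_mul_eq_one_right htt]
              rw [← mul_assoc t t, htt, one_mul]
        calc g * h * g⁻¹ = r * ((g * t * g⁻¹) * r⁻¹ * (g * t * g⁻¹)) := by rw [hti, hx2]
          _ = _ := by simp [mul_assoc]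
      have hk1 := hinv' g' (r * g)
      have hk2 := hinv' g' g
      rw [hprod]
      refine mul_inv_eq_iff_eq_mul.mp ?_
      have e : r * (g * t * g⁻¹) * r⁻¹ = r * g * t * (r * g)⁻¹ := by simp [mul_assoc]
      rw [e]
      calc r * g * t * (r * g)⁻¹ * (g * t * g⁻¹) * (g' * h * g'⁻¹) *
            (r * g * t * (r * g)⁻¹ * (g * t * g⁻¹))⁻¹
          = r * g * t * (r * g)⁻¹ * ((g * t * g⁻¹) * (g' * h * g'⁻¹) * (g * t * g⁻¹)⁻¹) *
            (r * g * t * (r * g)⁻¹)⁻¹ := by simp [mul_assoc]
        _ = g' * h * g'⁻¹ := by rw [hk2, ← conj_inv, hk1, inv_inv]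
    have hclos := Subgroup.isMulCommutative_closure (k := Group.conjugatesOfSet ({h} : Set G))
      fun x hx y hy => (hcomm x hx y hy).eq
    have hodd : ∀ x ∈ normalClosure ({h} : Set G), Odd (orderOf x) := by
      intro x hx
      induction hx using Subgroup.closure_induction with
      | mem x hx =>
        obtain ⟨x₀, hx₀, hx'⟩ := Group.mem_conjugatesOfSet_iff.mp hx
        rw [Set.mem_singleton_iff.mp hx₀] at hx'
        obtain ⟨g, rfl⟩ := isConj_iff.mp hx'
        rwa [Cfsg.Lib.Invol.orderOf_conj_eq]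
      | one => rw [orderOf_one]; exact odd_one
      | mul x y hx hy hx' hy' =>
        exact (hx'.mul hy').of_dvd_nat (Commute.orderOf_mul_dvd_mul_orderOf
          (congrArg Subtype.val (hclos.1.comm (⟨x, hx⟩ : closure (Group.conjugatesOfSet ({h} : Set G))) ⟨y, hy⟩)))
      | inv x _ hx' => rwa [orderOf_inv]
    have hle : normalClosure ({h} : Set G) ≤ ⊥ := by
      rw [← hO]
      refine Cfsg.Lib.Core.le_pPrimeCore' inferInstance (Nat.coprime_two_right.mpr ?_)
      by_contra hev
      obtain ⟨x, hx⟩ := exists_prime_orderOf_dvd_card' (G := normalClosure ({h} : Set G)) 2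
        (Nat.not_odd_iff_even.mp hev).two_dvd
      have h3 := hodd x x.2
      rw [Subgroup.orderOf_coe, hx] at h3
      exact absurd h3 (by decide)
    exact hh1 (mem_bot.mp (hle (subset_normalClosure rfl)))
  -- `t` is central in a Sylow subgroup
  obtain ⟨S, hS, -⟩ := exists_sylow_centralizer h2 hsep htt hpi
  haveI hN : (Cfsg.pCore 2 G).Normal := inferInstance
  have h1 : a⁻¹ * (b * t * b⁻¹) * a ∈ centralizer ({t} : Set G) := by
    refine hS (Cfsg.Lib.Core.pCore_le_sylow S ?_)
    simpa using hN.conj_mem _ (hN.conj_mem t htO b) a⁻¹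
  have h2' := congrArg (fun z => a * z * a⁻¹) (mem_centralizer_singleton_iff.mp h1)
  show _ = _
  simpa [mul_assoc] using h2'.symm

/-- The main case. -/
theorem isSolvable_of_core_trivial : Group.IsSolvable G := by
  classical
  haveI : Fact (Nat.Prime 2) := ⟨Nat.prime_two⟩
  have htt : t * t = 1 := by rw [← sq, ← ht, pow_orderOf_eq_one]
  have hT : ∀ a ∈ conjugatesOf t, a * a = 1 := fun a ha => by
    obtain ⟨g, rfl⟩ := isConj_iff.mp (ha : IsConj t a)
    calc g * t * g⁻¹ * (g * t * g⁻¹) = g * (t * t) * g⁻¹ := by simp [mul_assoc]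
      _ = 1 := by rw [htt, mul_one, mul_inv_cancel]
  have hTc : ∀ a ∈ conjugatesOf t, ∀ b ∈ conjugatesOf t, Commute a b := fun a ha b hb => by
    obtain ⟨g, rfl⟩ := isConj_iff.mp (ha : IsConj t a)
    obtain ⟨g', rfl⟩ := isConj_iff.mp (hb : IsConj t b)
    exact commute_conjugates_of_core_trivial h2 hsep hO ht hpi g g'
  set W := closure {z : G | ∃ a ∈ conjugatesOf t, ∃ b ∈ conjugatesOf t, z = a * b} with hW
  have hWT : ∀ w ∈ W, ∀ c ∈ conjugatesOf t, Commute w c := by
    intro w hw c hc
    induction hw using Subgroup.closure_induction with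
    | mem z hz => obtain ⟨a, ha, b, hb, rfl⟩ := hz; exact (hTc a ha c hc).mul_left (hTc b hb c hc)
    | one => exact Commute.one_left c
    | mul x y _ _ hx hy => exact hx.mul_left hy
    | inv x _ hx => exact hx.inv_left
  have hWc : ∀ w ∈ W, ∀ w' ∈ W, Commute w w' := by
    intro w hw w' hw'
    induction hw' using Subgroup.closure_induction with
    | mem z hz => obtain ⟨a, ha, b, hb, rfl⟩ := hz; exact (hWT w hw a ha).mul_right (hWT w hw b hb)
    | one => exact Commute.one_right w
    | mul x y _ _ hx hy => exact hx.mul_right hy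
    | inv x _ hx => exact hx.inv_right
  have hW2 : ∀ w ∈ W, w * w = 1 := by
    intro w hw
    induction hw using Subgroup.closure_induction with
    | mem z hz =>
      obtain ⟨a, ha, b, hb, rfl⟩ := hz
      rw [(hTc b hb a ha).mul_mul_mul_comm a b, hT a ha, hT b hb, one_mul]
    | one => exact one_mul 1
    | mul x y hx' hy' hx hy => rw [(hWc y hy' x hx').mul_mul_mul_comm x y, hx, hy, one_mul]
    | inv x _ hx => rw [← mul_inv_rev, hx, inv_one]
  haveI hWn : W.Normal := ⟨fun n hn g => by
    induction hn using Subgroup.closure_induction with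
    | mem z hz =>
      obtain ⟨a, ha, b, hb, rfl⟩ := hz
      refine subset_closure ⟨g * a * g⁻¹, (ha : IsConj t a).trans (isConj_iff.mpr ⟨g, rfl⟩),
        g * b * g⁻¹, (hb : IsConj t b).trans (isConj_iff.mpr ⟨g, rfl⟩), by simp [mul_assoc]⟩
    | one => simp
    | mul x y _ _ hx hy => simpa [mul_assoc] using W.mul_mem hx hy
    | inv x _ hx => simpa [mul_assoc] using W.inv_mem hx⟩
  -- every element of `W` is central or has a `π`-class
  have hkey : ∀ r ∈ W, r ∉ center G → PiClass π r := by
    intro r hr hrc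
    have hr2 := hW2 r hr
    have hn1 : ncl r ≠ 1 := fun h => hrc (mem_center_of_ncl_eq_one h)
    have hnr : 1 < ncl r := by have := ncl_pos r; omega
    rcases hsep r (isConj_inv_of_sq hr2) with h | h
    · exact ⟨hnr, h⟩
    exfalso
    have hcop : (ncl r).Coprime (ncl t) := hpi.coprime h
    have hRW : ∀ r' ∈ conjugatesOf r, r' ∈ W := fun r' hr' => by
      obtain ⟨g, rfl⟩ := isConj_iff.mp (hr' : IsConj r r')
      exact hWn.conj_mem r hr g
    have hrt : r * t * (r * t) = 1 := by
      rw [(hWT r hr t mem_conjugatesOf_self).symm.mul_mul_mul_comm r t, hr2, htt, one_mul]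
    have hK : ∀ r' ∈ conjugatesOf r, ∀ t' ∈ conjugatesOf t, r' * t' ∈ conjugatesOf (r * t) := by
      intro r' hr' t' ht'
      obtain ⟨g, rfl⟩ := isConj_iff.mp (hr' : IsConj r r')
      obtain ⟨k, rfl⟩ := isConj_iff.mp (ht' : IsConj t t')
      obtain ⟨c, hc, s, hs, hgk⟩ := Cfsg.Agent.S3933.exists_mul_of_coprime_index
        (centralizer ({r} : Set G)) (centralizer ({t} : Set G)) hcop (g⁻¹ * k)
      refine (isConj_iff.mpr ⟨g * c, ?_⟩ : IsConj (r * t) _)
      have hk : k = g * c * s := by rw [mul_assoc, ← hgk, mul_inv_cancel_left]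
      have hcr : c * r * c⁻¹ = r := by rw [mem_centralizer_singleton_iff.mp hc, mul_inv_cancel_right]
      have hst : s * t * s⁻¹ = t := by rw [mem_centralizer_singleton_iff.mp hs, mul_inv_cancel_right]
      calc g * c * (r * t) * (g * c)⁻¹ = g * ((c * r * c⁻¹) * (c * t * c⁻¹)) * g⁻¹ := by simp [mul_assoc]
        _ = g * (r * (c * (s * t * s⁻¹) * c⁻¹)) * g⁻¹ := by rw [hcr, hst]
        _ = g * r * g⁻¹ * (k * t * k⁻¹) := by rw [hk]; simp [mul_assoc]
    have hle : ncl (r * t) ∣ ncl r * ncl t := by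
      show _ ∣ (centralizer ({r} : Set G)).index * (centralizer ({t} : Set G)).index
      rw [← index_inf_eq_mul hcop]
      refine index_dvd_of_le fun g hg => mem_centralizer_singleton_iff.mpr ?_
      exact ((show Commute g r from mem_centralizer_singleton_iff.mp hg.1).mul_right
        (show Commute g t from mem_centralizer_singleton_iff.mp hg.2)).eq
    rcases hsep (r * t) (isConj_inv_of_sq hrt) with h' | h'
    · have hd : ncl (r * t) ∣ ncl t := Nat.Coprime.dvd_of_dvd_mul_left
        (Nat.coprime_of_dvd fun p hp hp1 hp2 => h p hp hp2 (h' p hp hp1)) hle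
      have hcard := Nat.le_of_dvd (ncl_pos t) hd
      rw [ncl_eq_ncard, ncl_eq_ncard] at hcard
      have heq : (fun a => r * a) '' conjugatesOf t = conjugatesOf (r * t) := by
        refine Set.eq_of_subset_of_ncard_le ?_ ?_ (Set.toFinite _)
        · rintro _ ⟨a, ha, rfl⟩
          exact hK r mem_conjugatesOf_self a ha
        · rw [Set.ncard_image_of_injective _ (mul_right_injective r)]
          exact hcard
      have hR1 : ∀ r' ∈ conjugatesOf r, r' = r := by
        intro r' hr'
        have hodd : Odd (conjugatesOf t).ncard := ncl_eq_ncard t ▸ hpi.odd h2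
        have hrr : r * r' * (r * r') = 1 := hW2 _ (W.mul_mem hr (hRW r' hr'))
        obtain ⟨a, -, ha⟩ := exists_fixed_of_odd hodd (fun a => r * r' * a) (k := 1)
          (fun a ha => by
            obtain ⟨b, hb, hb'⟩ := heq.ge (hK r' hr' a ha)
            show r * r' * a ∈ conjugatesOf t
            rw [mul_assoc, ← show r * b = r' * a from hb', ← mul_assoc, hr2, one_mul]
            exact hb)
          (fun a _ => by
            rw [pow_one, Function.iterate_succ_apply', Function.iterate_one, ← mul_assoc, hrr, one_mul])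
        exact mul_left_cancel ((mul_eq_right.mp ha).trans hr2.symm)
      refine hn1 ?_
      rw [ncl_eq_ncard, Set.eq_singleton_iff_unique_mem.mpr ⟨mem_conjugatesOf_self, hR1⟩]
      exact Set.ncard_singleton r
    · have hd : ncl (r * t) ∣ ncl r := Nat.Coprime.dvd_of_dvd_mul_right
        (Nat.coprime_of_dvd fun p hp hp1 hp2 => h' p hp hp1 (hpi.2 p hp hp2)) hle
      have hcard := Nat.le_of_dvd (ncl_pos r) hd
      rw [ncl_eq_ncard, ncl_eq_ncard] at hcard
      have heq : (fun y => y * t) '' conjugatesOf r = conjugatesOf (r * t) := by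
        refine Set.eq_of_subset_of_ncard_le ?_ ?_ (Set.toFinite _)
        · rintro _ ⟨a, ha, rfl⟩
          exact hK a ha t mem_conjugatesOf_self
        · rw [Set.ncard_image_of_injective _ (mul_left_injective t)]
          exact hcard
      have hstep : ∀ y ∈ conjugatesOf r, ∀ a ∈ conjugatesOf t, y * (a * t) ∈ conjugatesOf r := by
        intro y hy a ha
        obtain ⟨y', hy', hyy⟩ := heq.ge (hK y hy a ha)
        rw [← mul_assoc, ← show y' * t = y * a from hyy, mul_assoc, htt, mul_one]
        exact hy'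
      have hWR : ∀ w ∈ W, ∀ y ∈ conjugatesOf r, y * w ∈ conjugatesOf r := by
        intro w hw
        induction hw using Subgroup.closure_induction with
        | mem z hz =>
          obtain ⟨a, ha, b, hb, rfl⟩ := hz
          intro y hy
          have h3 := hstep _ (hstep y hy a ha) b hb
          rwa [mul_assoc y, (hTc b hb t mem_conjugatesOf_self).eq, mul_assoc a t (t * b), ← mul_assoc t t, htt,
            one_mul] at h3
        | one => intro y hy; rwa [mul_one]
        | mul x z _ _ hx hz => intro y hy; rw [← mul_assoc]; exact hz _ (hx y hy)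
        | inv x hx' hx => rw [inv_eq_of_mul_eq_one_right (hW2 x hx')]; exact hx
      have h1 : IsConj r (r * r) := hWR r hr r mem_conjugatesOf_self
      rw [hr2] at h1
      exact hrc ((isConj_one_left.mp h1) ▸ one_mem _)
  -- some element of `W` is not central
  obtain ⟨u₀, hu₀, hu₀c⟩ : ∃ u ∈ W, u ∉ center G := by
    by_contra hcon
    push Not at hcon
    refine hpi.not_mem_center (mem_center_iff.mpr fun g => ?_)
    have hz : g * t * g⁻¹ * t ∈ W :=
      subset_closure ⟨g * t * g⁻¹, (isConj_iff.mpr ⟨g, rfl⟩ : IsConj t _), t, mem_conjugatesOf_self, rfl⟩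
    exact mem_centralizer_singleton_iff.mp (mem_centralizer_of_conj_eq_center_mul (hpi.odd h2) (hcon _ hz)
      (hW2 _ hz) (by rw [mul_assoc (g * t * g⁻¹), htt, mul_one]))
  -- the action on `W / (W ∩ Z(G))`
  set Z := (center G).subgroupOf W with hZ
  let Q := ↥W ⧸ Z
  have hQ2 : ∀ q : Q, q * q = 1 := fun q => QuotientGroup.induction_on q fun w => by
    rw [← QuotientGroup.mk_mul, show w * w = 1 from Subtype.ext (hW2 w w.2), QuotientGroup.mk_one]
  letI : CommGroup Q := { (inferInstance : Group Q) with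
    mul_comm := fun a b => by
      induction a using QuotientGroup.induction_on with
      | H x =>
        induction b using QuotientGroup.induction_on with
        | H y =>
          rw [← QuotientGroup.mk_mul, ← QuotientGroup.mk_mul,
            show x * y = y * x from Subtype.ext (hWc x x.2 y y.2).eq] }
  have hZmap : ∀ g : G, Z ≤ Z.comap (MulAut.conjNormal (H := W) g).toMonoidHom := fun g w hw => by
    show ((MulAut.conjNormal g w : W) : G) ∈ center G
    rw [MulAut.conjNormal_apply]
    exact (inferInstance : (center G).Normal).conj_mem _ hw g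
  let V := Additive Q
  letI : MulAction G V :=
    { smul := fun g v => Additive.ofMul (QuotientGroup.map Z Z (MulAut.conjNormal (H := W) g).toMonoidHom (hZmap g) v.toMul)
      one_smul := fun v => QuotientGroup.induction_on v.toMul (C := fun q =>
          Additive.ofMul (QuotientGroup.map Z Z (MulAut.conjNormal (H := W) 1).toMonoidHom (hZmap 1) q) = Additive.ofMul q)
        fun w => congrArg (fun z : W => Additive.ofMul (z : Q)) (DFunLike.congr_fun (map_one (MulAut.conjNormal (H := W))) w)
      mul_smul := fun g k v => QuotientGroup.induction_on v.toMul (C := fun q =>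
          Additive.ofMul (QuotientGroup.map Z Z (MulAut.conjNormal (H := W) (g * k)).toMonoidHom (hZmap (g * k)) q) =
            Additive.ofMul (QuotientGroup.map Z Z (MulAut.conjNormal (H := W) g).toMonoidHom (hZmap g)
              (QuotientGroup.map Z Z (MulAut.conjNormal (H := W) k).toMonoidHom (hZmap k) q)))
        fun w => congrArg (fun z : W => Additive.ofMul (z : Q)) (DFunLike.congr_fun (map_mul (MulAut.conjNormal (H := W)) g k) w) }
  have hadd : ∀ (g : G) (v v' : V), g • (v + v') = g • v + g • v' := fun g v v' =>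
    congrArg Additive.ofMul (map_mul (QuotientGroup.map Z Z (MulAut.conjNormal (H := W) g).toMonoidHom (hZmap g)) v.toMul v'.toMul)
  have hzero : ∀ g : G, g • (0 : V) = 0 := fun g =>
    congrArg Additive.ofMul (map_one (QuotientGroup.map Z Z (MulAut.conjNormal (H := W) g).toMonoidHom (hZmap g)))
  -- stabilisers
  have hfix : ∀ (g : G) (w : W), g • (Additive.ofMul (w : Q) : V) = Additive.ofMul (w : Q) →
      (w : G) ∉ center G → g ∈ centralizer ({(w : G)} : Set G) := by
    intro g w hg hw
    have h1 : (MulAut.conjNormal g w)⁻¹ * w ∈ Z := QuotientGroup.eq.mp (Additive.ofMul.injective hg)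
    have h3 : ((MulAut.conjNormal g w : W) : G)⁻¹ * (w : G) ∈ center G := h1
    rw [MulAut.conjNormal_apply, inv_eq_of_mul_eq_one_right (hW2 _ (hWn.conj_mem _ w.2 g))] at h3
    exact mem_centralizer_of_conj_eq_center_mul ((hkey _ w.2 hw).odd h2) h3
      (hW2 _ (W.mul_mem (hWn.conj_mem _ w.2 g) w.2)) (by rw [mul_assoc (g * (w : G) * g⁻¹), hW2 _ w.2, mul_one])
  let φ := MulAction.toPermHom G V
  letI : DistribMulAction φ.range V :=
    { (inferInstance : MulAction φ.range V) with
      smul_zero := fun γ => by obtain ⟨g, hg⟩ := γ.2; show (γ : Equiv.Perm V) 0 = 0; rw [← hg]; exact hzero g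
      smul_add := fun γ v v' => by
        obtain ⟨g, hg⟩ := γ.2; show (γ : Equiv.Perm V) (v + v') = _; rw [← hg]
        show g • (v + v') = (γ : Equiv.Perm V) v + (γ : Equiv.Perm V) v'
        rw [← hg]; exact hadd g v v' }
  haveI : FaithfulSMul φ.range V := ⟨fun {x y} h => Subtype.ext (Equiv.ext h)⟩
  have hfsurj : Function.Surjective φ.rangeRestrict := φ.rangeRestrict_surjective
  haveI : Finite V := (inferInstance : Finite Q)
  have hD : RealData φ.range V := by
    refine ⟨fun v => hQ2 v.toMul, ⟨Additive.ofMul ((⟨u₀, hu₀⟩ : W) : Q), fun h => hu₀c ?_⟩, fun d hd P => ?_,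
      fun v hv => ?_⟩
    · exact (QuotientGroup.eq_one_iff (⟨u₀, hu₀⟩ : W)).mp h
    · obtain ⟨x, rfl, hx, hxo⟩ := exists_real_lift_prime φ.rangeRestrict hfsurj hd.1 hd.2.1 hd.2.2
      obtain ⟨S, -, hSN⟩ := exists_sylow_centralizer h2 hsep htt hpi
      have hx1 : x ≠ 1 := fun h => hd.ne_one (by rw [h, map_one])
      have h1 : ncl (φ.rangeRestrict x) ∣ ncl x := ncl_map_dvd _ hfsurj x
      have hP : (normalizer ((P : Subgroup φ.range) : Set φ.range)).index ∣ ncl t := by
        have e : (normalizer ((P : Subgroup φ.range) : Set φ.range)).index =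
            (normalizer (((S.mapSurjective hfsurj : Sylow 2 φ.range) : Subgroup φ.range) : Set φ.range)).index :=
          P.card_eq_index_normalizer.symm.trans (S.mapSurjective hfsurj).card_eq_index_normalizer
        rw [e, Sylow.coe_mapSurjective]
        exact ((index_dvd_of_le (le_normalizer_map _)).trans (index_map_dvd _ hfsurj)).trans (index_dvd_of_le hSN)
      exact ((hpi.coprime (notPi_of_two_dvd h2 hsep hx (two_dvd_ncl hx hx1 hxo))).coprime_dvd_left h1).coprime_dvd_right hP
    · obtain ⟨w, hw⟩ := QuotientGroup.mk_surjective v.toMul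
      have hwc : (w : G) ∉ center G := fun h => hv (by
        rw [← ofMul_toMul v, ← hw, (QuotientGroup.eq_one_iff w).mpr h]; rfl)
      have hv' : v = Additive.ofMul (w : Q) := by rw [hw]; rfl
      obtain ⟨S, hS, hSN⟩ := exists_sylow_centralizer h2 hsep (hW2 _ w.2) (hkey _ w.2 hwc)
      refine ⟨S.mapSurjective hfsurj, ?_, fun γ hγ => ?_⟩
      · rintro _ ⟨s, hs, rfl⟩
        show s • v = v
        rw [hv']
        refine congrArg (fun z : W => (Additive.ofMul (z : Q) : V)) (Subtype.ext ?_)
        show ((MulAut.conjNormal s w : W) : G) = w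
        rw [MulAut.conjNormal_apply, mem_centralizer_singleton_iff.mp (hS hs), mul_inv_cancel_right]
      · obtain ⟨g, rfl⟩ := hfsurj γ
        rw [Sylow.coe_mapSurjective]
        exact le_normalizer_map _ (mem_map_of_mem _ (hSN (hfix g w (hv' ▸ hγ) hwc)))
  haveI := hD.isSolvable
  have hker : φ.rangeRestrict.ker ≤ centralizer ({u₀} : Set G) := fun g hg => by
    refine hfix g ⟨u₀, hu₀⟩ ?_ hu₀c
    rw [MonoidHom.ker_rangeRestrict] at hg
    exact Equiv.congr_fun (MonoidHom.mem_ker.mp hg) (Additive.ofMul ((⟨u₀, hu₀⟩ : W) : Q) : V)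
  haveI : Group.IsSolvable φ.rangeRestrict.ker := by
    obtain ⟨S, -, hSN⟩ := exists_sylow_centralizer h2 hsep (hW2 _ hu₀) (hkey _ hu₀ hu₀c)
    haveI := isSolvable_normalizer_sylow S
    exact Group.isSolvable_of_isSolvable_injective (f := Subgroup.inclusion (hker.trans hSN))
      (Subgroup.inclusion_injective _)
  exact Group.isSolvable_of_ker_le_range φ.rangeRestrict.ker.subtype φ.rangeRestrict
    (by rw [Subgroup.range_subtype])

end CoreTrivial

/-- Separated real class sizes give solvability. -/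
theorem isSolvable_of_sep (h2 : 2 ∉ π) (hsep : Sep π G)
    (hex : ∃ x : G, IsConj x x⁻¹ ∧ ∃ p : ℕ, p.Prime ∧ p ∈ π ∧ p ∣ ncl x) : Group.IsSolvable G := by
  classical
  obtain ⟨t, htr, p, hp, hpπ, hpd⟩ := hex
  have hall := (hsep t htr).resolve_right fun h => h p hp hpd hpπ
  have hpi : PiClass π t := ⟨lt_of_lt_of_le hp.one_lt (Nat.le_of_dvd (ncl_pos t) hpd), hall⟩
  have ht2 := sq_eq_one_of_odd_ncl htr (hpi.odd h2)
  have ht1 : t ≠ 1 := fun h => hpi.not_mem_center (h ▸ one_mem _)
  have htt : t * t = 1 := by rw [← sq, ht2]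
  set O := Cfsg.pPrimeCore 2 G with hOdef
  have hOodd : Odd (Nat.card O) := Nat.coprime_two_right.mp (Cfsg.Lib.Core.pPrimeCore_coprime 2 G)
  haveI : O.Normal := inferInstance
  haveI hOsol : Group.IsSolvable O := Cfsg.Agent.S0205.result hOodd
  set f := QuotientGroup.mk' O
  have hfs : Function.Surjective f := QuotientGroup.mk'_surjective O
  by_cases hc : f t ∈ center (G ⧸ O)
  · obtain ⟨S, -, hSN⟩ := exists_sylow_centralizer h2 hsep htt hpi
    haveI := isSolvable_normalizer_sylow S
    haveI : Group.IsSolvable (centralizer ({t} : Set G)) :=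
      Group.isSolvable_of_isSolvable_injective (f := Subgroup.inclusion hSN) (Subgroup.inclusion_injective _)
    refine isSolvable_of_forall_mul O (centralizer ({t} : Set G)) fun g => ?_
    have hmem : t * (g * t * g⁻¹) ∈ O := by
      rw [← QuotientGroup.eq_one_iff]
      show f (t * (g * t * g⁻¹)) = 1
      rw [map_mul, map_mul, map_mul, map_inv, mem_center_iff.mp hc (f g), mul_inv_cancel_right, ← map_mul,
        htt, map_one]
    have hgt : g * t * g⁻¹ * (g * t * g⁻¹) = 1 := by
      calc g * t * g⁻¹ * (g * t * g⁻¹) = g * (t * t) * g⁻¹ := by simp [mul_assoc]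
        _ = 1 := by rw [htt, mul_one, mul_inv_cancel]
    obtain ⟨s, hs, hsv⟩ := exists_conj_zpowers htt hgt (hOodd.of_dvd_nat (Subgroup.orderOf_dvd_natCard _ hmem))
    refine ⟨s, zpowers_le.mpr hmem hs, s⁻¹ * g, ?_, by simp⟩
    refine mem_centralizer_singleton_iff.mpr (mul_inv_eq_iff_eq_mul.mp ?_)
    calc s⁻¹ * g * t * (s⁻¹ * g)⁻¹ = s⁻¹ * (g * t * g⁻¹) * s := by simp [mul_assoc]
      _ = t := by rw [← hsv]; simp [mul_assoc]
  have hfpi : PiClass π (f t) := ⟨by
      by_contra hle
      exact hc (mem_center_of_ncl_eq_one (le_antisymm (not_lt.mp hle) (ncl_pos _))),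
    fun q hq hqd => hall q hq (hqd.trans (ncl_map_dvd f hfs t))⟩
  have hsep' : Sep π (G ⧸ O) := fun y hy => by
    obtain ⟨x, rfl, hx⟩ := exists_real_lift f hfs (by rwa [QuotientGroup.ker_mk']) hy
    exact (hsep x hx).imp (fun h q hq hqd => h q hq (hqd.trans (ncl_map_dvd f hfs x)))
      (fun h q hq hqd => h q hq (hqd.trans (ncl_map_dvd f hfs x)))
  have hto : orderOf (f t) = 2 := orderOf_eq_prime (by rw [← map_pow, ht2, map_one])
    fun h => hc (h ▸ one_mem _)
  haveI : Fact (Nat.Prime 2) := ⟨Nat.prime_two⟩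
  haveI := isSolvable_of_core_trivial h2 hsep' Cfsg.Lib.Core.pPrimeCore_quotient_eq_bot hto hfpi
  exact Group.isSolvable_of_ker_le_range O.subtype f (by rw [QuotientGroup.ker_mk', Subgroup.range_subtype])

end Cfsg.Lib.RealClass
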