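import Cfsg.Agent.Lib.RealClass.Basic
import Cfsg.Agent.S2904
import Mathlib.RingTheory.LittleWedderburn
import Mathlib.RingTheory.IntegralDomain

/-!
# A cyclic subgroup transitive on the Sylow `2`-subgroups
-/

set_option autoImplicit false
set_option linter.style.haveILetI false
set_option linter.unusedSectionVars false

namespace Cfsg.Lib.RealClass

open Subgroup
open scoped Pointwise

universe u w

variable {Γ : Type u} [Group Γ] [Finite Γ] {V : Type w} [AddCommGroup V] [Finite V]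
  [DistribMulAction Γ V]

variable (Γ V) in
/-- An invariant family of subgroups with independent nonzero fixed spaces fixes everything. -/
def Rigid : Prop := ∀ 𝓜 : Set (Subgroup Γ), (∀ X ∈ 𝓜, ∀ g : Γ, MulAut.conj g • X ∈ 𝓜) →
  (∀ X ∈ 𝓜, fixV (V := V) X ≠ ⊥) →
  (∀ X ∈ 𝓜, ∃ π : V →+ V, (∀ v ∈ fixV (V := V) X, π v = v) ∧
    ∀ X' ∈ 𝓜, X' ≠ X → ∀ v ∈ fixV (V := V) X', π v = 0) →
  ∀ X ∈ 𝓜, fixV (V := V) X = ⊤

theorem smul_mem_fixV_conj {X : Subgroup Γ} {v : V} (hv : v ∈ fixV X) (g : Γ) :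
    g • v ∈ fixV (MulAut.conj g • X : Subgroup Γ) := by
  rintro _ ⟨y, hy, rfl⟩
  show (MulAut.conj g y) • g • v = g • v
  rw [MulAut.conj_apply, ← mul_smul, inv_mul_cancel_right, mul_smul, mem_fixV.mp hv y hy]

theorem card_fixV_conj (X : Subgroup Γ) (g : Γ) :
    Nat.card (fixV (V := V) X) = Nat.card (fixV (V := V) (MulAut.conj g • X : Subgroup Γ)) :=
  Nat.card_congr
    { toFun := fun v => ⟨g • (v : V), smul_mem_fixV_conj v.2 g⟩
      invFun := fun v => ⟨g⁻¹ • (v : V), by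
        have := smul_mem_fixV_conj v.2 g⁻¹
        rwa [map_inv, inv_smul_smul] at this⟩
      left_inv := fun v => Subtype.ext (inv_smul_smul g (v : V))
      right_inv := fun v => Subtype.ext (smul_inv_smul g (v : V)) }

/-- A member of the family moved by an element of prime order `q` gives `q` independent fixed spaces. -/
theorem smul_eq_or_pow_card_le {𝓜 : Set (Subgroup Γ)} (hconj : ∀ X ∈ 𝓜, ∀ g : Γ, MulAut.conj g • X ∈ 𝓜)
    (hproj : ∀ X ∈ 𝓜, ∃ π : V →+ V, (∀ v ∈ fixV (V := V) X, π v = v) ∧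
      ∀ X' ∈ 𝓜, X' ≠ X → ∀ v ∈ fixV (V := V) X', π v = 0)
    {X : Subgroup Γ} (hX : X ∈ 𝓜) {g : Γ} {q : ℕ} (hq : q.Prime) (hg : orderOf g = q) :
    MulAut.conj g • X = X ∨ Nat.card (fixV (V := V) X) ^ q ≤ Nat.card V := by
  by_cases hfix : MulAut.conj g • X = X
  · exact Or.inl hfix
  refine Or.inr ?_
  set S : Subgroup Γ := (MulAction.stabilizer (MulAut Γ) X).comap MulAut.conj with hS
  have hgS : g ∉ S := hfix
  haveI : Fact (Nat.card (zpowers g)).Prime := ⟨by rwa [Nat.card_zpowers, hg]⟩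
  have hbot : S.subgroupOf (zpowers g) = ⊥ := by
    rcases (S.subgroupOf (zpowers g)).eq_bot_or_eq_top_of_prime_card with h | h
    · exact h
    · exact absurd ((subgroupOf_eq_top.mp h) (mem_zpowers g)) hgS
  let Xi : Fin q → Subgroup Γ := fun i => MulAut.conj (g ^ (i : ℕ)) • X
  have hinj : Function.Injective Xi := by
    intro i j hij
    have h1 : (g ^ (i : ℕ))⁻¹ * g ^ (j : ℕ) ∈ S := by
      show MulAut.conj ((g ^ (i : ℕ))⁻¹ * g ^ (j : ℕ)) • X = X
      rw [map_mul, map_inv, mul_smul, ← show Xi i = MulAut.conj (g ^ (j : ℕ)) • X from hij, inv_smul_smul]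
    have h2 : (⟨(g ^ (i : ℕ))⁻¹ * g ^ (j : ℕ), mul_mem (inv_mem (pow_mem (mem_zpowers g) _))
        (pow_mem (mem_zpowers g) _)⟩ : zpowers g) ∈ S.subgroupOf (zpowers g) := h1
    rw [hbot, mem_bot] at h2
    have h3 : g ^ (i : ℕ) = g ^ (j : ℕ) := inv_mul_eq_one.mp (congrArg Subtype.val h2 :)
    refine Fin.ext (pow_injOn_Iio_orderOf (x := g) ?_ ?_ h3) <;> simp [hg]
  choose π hπ1 hπ0 using fun i : Fin q => hproj (Xi i) (hconj X hX _)
  refine le_trans (le_of_eq ?_) (Nat.card_le_card_of_injective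
    (fun s : ∀ i : Fin q, fixV (V := V) (Xi i) => ∑ i, (s i : V)) fun s t hst => ?_)
  · rw [Nat.card_pi]
    simp only [Xi, ← card_fixV_conj, Finset.prod_const, Finset.card_univ, Fintype.card_fin]
  · funext i
    have key : ∀ r : (∀ i : Fin q, fixV (V := V) (Xi i)), π i (∑ j, (r j : V)) = r i := by
      intro r
      rw [map_sum, Finset.sum_eq_single i (fun j _ hj => hπ0 i _ (hconj X hX _)
        (fun h => hj (hinj h)) _ (r j).2) (fun h => absurd (Finset.mem_univ i) h), hπ1 i _ (r i).2]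
    refine Subtype.ext ?_
    rw [← key s, ← key t]
    exact congrArg (π i) hst

theorem smul_mem_fixV_of_smul_eq {X : Subgroup Γ} {g : Γ} (h : MulAut.conj g • X = X) {v : V}
    (hv : v ∈ fixV X) : g • v ∈ fixV X := h ▸ smul_mem_fixV_conj hv g

/-- Counting modulo the order of an element. -/
theorem card_modEq_fixed {g : Γ} {q : ℕ} [Fact q.Prime] (hg : g ^ q = 1) (W : AddSubgroup V)
    (hW : ∀ v ∈ W, g • v ∈ W) : Nat.card W ≡ Nat.card ↥(W ⊓ fixE g) [MOD q] := by
  classical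
  haveI : Fintype W := Fintype.ofFinite W
  let φ : Function.End W := fun v => ⟨g • (v : V), hW v v.2⟩
  have hpow : ∀ (n : ℕ) (v : W), (((φ ^ n) v : W) : V) = g ^ n • (v : V) := by
    intro n
    induction n with
    | zero => intro v; rw [pow_zero, pow_zero, one_smul]; rfl
    | succ n ih => intro v; rw [pow_succ, pow_succ, mul_smul]; exact ih (φ v)
  have hφ : φ ^ q ^ 1 = 1 := funext fun v => Subtype.ext (by rw [hpow, pow_one, hg, one_smul]; rfl)
  have h := Equiv.Perm.card_fixedPoints_modEq hφ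
  rw [← Nat.card_eq_fintype_card, ← Nat.card_eq_fintype_card] at h
  refine h.trans (congrArg (· % q) (Nat.card_congr
    { toFun := fun v => ⟨((v : W) : V), (v : W).2, (congrArg Subtype.val v.2 :)⟩
      invFun := fun v => ⟨⟨(v : V), v.2.1⟩, Subtype.ext v.2.2⟩
      left_inv := fun v => rfl
      right_inv := fun v => rfl }))

/-- Elements of `Γ` whose centraliser acts semiregularly and is cyclic. -/
theorem centralizer_of_irreducible [FaithfulSMul Γ V] {z : Γ} (hne : ∃ v : V, v ≠ 0)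
    (hirr : ∀ W : AddSubgroup V, (∀ v ∈ W, z • v ∈ W) → W = ⊥ ∨ W = ⊤) :
    IsCyclic (centralizer ({z} : Set Γ)) ∧
      ∀ g ∈ centralizer ({z} : Set Γ), ∀ v : V, v ≠ 0 → g • v = v → g = 1 := by
  classical
  refine ⟨?_, fun g hg v hv hgv => eq_of_smul_eq_smul fun x : V => ?_⟩
  · let R := Subring.centralizer ({DistribMulAction.toAddMonoidEnd Γ V z} : Set (AddMonoid.End V))
    haveI : Finite (AddMonoid.End V) := Finite.of_injective (fun φ : V →+ V => (φ : V → V)) DFunLike.coe_injective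
    haveI : Nontrivial R := ⟨⟨0, 1, fun h => by
      obtain ⟨v, hv⟩ := hne
      exact hv (DFunLike.congr_fun (congrArg Subtype.val h :) v).symm⟩⟩
    haveI : NoZeroDivisors R := ⟨fun {a b} hab => by
      by_contra hor
      push Not at hor
      obtain ⟨v, hv⟩ : ∃ v : V, (b : AddMonoid.End V) v ≠ 0 := by
        by_contra hall
        push Not at hall
        exact hor.2 (Subtype.ext (AddMonoidHom.ext hall))
      have ha : ∀ x : V, (a : AddMonoid.End V) (z • x) = z • (a : AddMonoid.End V) x := fun x =>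
        (DFunLike.congr_fun (Subring.mem_centralizer_iff.mp a.2 _ rfl) x).symm
      rcases hirr (a : V →+ V).ker (fun x hx => by
        show (a : AddMonoid.End V) (z • x) = 0
        rw [ha, show (a : AddMonoid.End V) x = 0 from hx, smul_zero]) with h | h
      · exact hv ((AddSubgroup.mem_bot).mp (h ▸ (DFunLike.congr_fun (congrArg Subtype.val hab :) v :
          (b : AddMonoid.End V) v ∈ (a : V →+ V).ker)))
      · exact hor.1 (Subtype.ext (AddMonoidHom.ext fun x => (h ▸ AddSubgroup.mem_top x : x ∈ (a : V →+ V).ker)))⟩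
    haveI : IsDomain R := NoZeroDivisors.to_isDomain R
    letI : CommRing R := { (inferInstance : Ring R) with mul_comm := (Finite.isDomain_to_isField R).mul_comm }
    have hmem : ∀ g : centralizer ({z} : Set Γ), DistribMulAction.toAddMonoidEnd Γ V (g : Γ) ∈ R := fun g => by
      refine Subring.mem_centralizer_iff.mpr fun y hy => ?_
      rw [Set.mem_singleton_iff.mp hy, ← map_mul, ← map_mul, mem_centralizer_singleton_iff.mp g.2]
    refine isCyclic_of_injective_ringHom (R := R)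
      (((DistribMulAction.toAddMonoidEnd Γ V).comp (centralizer ({z} : Set Γ)).subtype).codRestrict R hmem) ?_
    intro g h hgh
    exact Subtype.ext (eq_of_smul_eq_smul fun v : V => DFunLike.congr_fun (congrArg Subtype.val hgh :) v)
  · rcases hirr (fixE g) (fun y (hy : g • y = y) => show g • z • y = z • y by
      rw [← mul_smul, mem_centralizer_singleton_iff.mp hg, mul_smul, hy]) with h | h
    · exact absurd ((AddSubgroup.mem_bot).mp (h ▸ (hgv : v ∈ fixE g))) hv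
    · rw [one_smul]
      exact (h ▸ AddSubgroup.mem_top x : x ∈ fixE g)

/-- An element commuting with a square root of inversion: descent to an inverted element. -/
theorem exists_inverted_of_not_commute {c x : Γ} {k : ℕ} (hc : c ^ 2 ^ k = 1) (h : c * x * c⁻¹ ≠ x) :
    ∃ c' ∈ zpowers c, x⁻¹ * (c' * x * c'⁻¹) ≠ 1 ∧
      c' * (x⁻¹ * (c' * x * c'⁻¹)) * c'⁻¹ = (x⁻¹ * (c' * x * c'⁻¹))⁻¹ := by
  induction k generalizing c with
  | zero => rw [pow_zero, pow_one] at hc; subst hc; simp at h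
  | succ k ih =>
    by_cases h2 : c ^ 2 * x * (c ^ 2)⁻¹ = x
    · refine ⟨c, mem_zpowers c, fun h1 => h (inv_mul_eq_one.mp h1).symm, ?_⟩
      have h3 : c * (c * x * c⁻¹) * c⁻¹ = x := by
        rw [sq] at h2
        simpa [mul_assoc] using h2
      calc c * (x⁻¹ * (c * x * c⁻¹)) * c⁻¹ = (c * x * c⁻¹)⁻¹ * (c * (c * x * c⁻¹) * c⁻¹) := by simp [mul_assoc]
        _ = _ := by rw [h3]; simp [mul_assoc]
    · obtain ⟨c', hc', h'⟩ := ih (c := c ^ 2) (by rw [← pow_mul, ← pow_succ', hc]) h2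
      exact ⟨c', zpowers_le.mpr (pow_mem (mem_zpowers c) 2) hc', h'⟩

/-- Inverting `d` while normalising a Sylow subgroup of its centraliser. -/
theorem exists_two_normalizing {p : ℕ} [Fact p.Prime] {d : Γ} (hd : IsConj d d⁻¹) (Q : Sylow p Γ)
    (hQ : (Q : Subgroup Γ) ≤ centralizer ({d} : Set Γ)) :
    ∃ g : Γ, ∃ k : ℕ, g ^ 2 ^ k = 1 ∧ g * d * g⁻¹ = d⁻¹ ∧ g ∈ normalizer ((Q : Subgroup Γ) : Set Γ) := by
  obtain ⟨c, hc⟩ := isConj_iff.mp hd
  have hcQ : ((c • Q : Sylow p Γ) : Subgroup Γ) ≤ centralizer ({d} : Set Γ) := by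
    rw [Sylow.coe_subgroup_smul]
    rintro _ ⟨y, hy, rfl⟩
    show MulAut.conj c y ∈ _
    rw [MulAut.conj_apply, mem_centralizer_singleton_iff]
    have hyd : Commute y d := mem_centralizer_singleton_iff.mp (hQ hy)
    have h1 : c * d⁻¹ * c⁻¹ = d := by rw [← conj_inv, hc, inv_inv]
    calc c * y * c⁻¹ * d = c * y * c⁻¹ * (c * d⁻¹ * c⁻¹) := by rw [h1]
      _ = c * (y * d⁻¹) * c⁻¹ := by simp [mul_assoc]
      _ = c * (d⁻¹ * y) * c⁻¹ := by rw [hyd.inv_right.eq]
      _ = (c * d⁻¹ * c⁻¹) * (c * y * c⁻¹) := by simp [mul_assoc]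
      _ = d * (c * y * c⁻¹) := by rw [h1]
  obtain ⟨x, hx⟩ := MulAction.exists_smul_eq (centralizer ({d} : Set Γ)) ((c • Q).subtype hcQ) (Q.subtype hQ)
  rw [Sylow.smul_subtype] at hx
  have hxc : ((x : Γ) * c) • Q = Q := (mul_smul _ _ _).trans (Sylow.subtype_injective hx)
  have hinv : (x : Γ) * c * d * ((x : Γ) * c)⁻¹ = d⁻¹ := by
    have hxd : Commute (x : Γ) d := mem_centralizer_singleton_iff.mp x.2
    calc (x : Γ) * c * d * ((x : Γ) * c)⁻¹ = x * (c * d * c⁻¹) * (x : Γ)⁻¹ := by simp [mul_assoc]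
      _ = d⁻¹ := by rw [hc, hxd.inv_right.eq, mul_inv_cancel_right]
  obtain ⟨m, k, -, hk, hm⟩ := exists_two_part hinv
  exact ⟨_, k, hk, hm, pow_mem (Sylow.smul_eq_iff_mem_normalizer.mp hxc) m⟩

theorem exists_central_of_dvd {p : ℕ} [Fact p.Prime] (hp : p ∣ Nat.card Γ) (Q : Sylow p Γ) :
    ∃ z : Γ, orderOf z = p ∧ z ∈ Q ∧ ∀ y ∈ Q, Commute z y := by
  haveI : Nontrivial Q := Finite.one_lt_card_iff_nontrivial.mp
    (lt_of_lt_of_le (Fact.out : p.Prime).one_lt (Nat.le_of_dvd Nat.card_pos (Q.dvd_card_of_dvd_card hp)))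
  haveI := Q.isPGroup'.center_nontrivial
  obtain ⟨z, hz⟩ := exists_prime_orderOf_dvd_card' (G := center ↥(Q : Subgroup Γ)) p (by
    obtain ⟨i, hi⟩ := IsPGroup.iff_card.mp (Q.isPGroup'.to_subgroup (center ↥(Q : Subgroup Γ)))
    rw [hi]
    refine dvd_pow_self p fun h0 => ?_
    rw [h0, pow_zero] at hi
    exact not_subsingleton (center ↥(Q : Subgroup Γ)) (Nat.card_eq_one_iff_unique.mp hi).1)
  refine ⟨((z : ↥(Q : Subgroup Γ)) : Γ), by rw [Subgroup.orderOf_coe, Subgroup.orderOf_coe, hz], (z : ↥(Q : Subgroup Γ)).2,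
    fun y hy => ?_⟩
  exact (congrArg Subtype.val (mem_center_iff.mp z.2 ⟨y, hy⟩)).symm

namespace RealData

variable [FaithfulSMul Γ V] (D : RealData Γ V)
include D

theorem transitive_of_semiregular {A : Subgroup Γ} (hsemi : ∀ g ∈ A, ∀ v : V, v ≠ 0 → g • v = v → g = 1)
    (hcard : Nat.card V - 1 ≤ Nat.card A) (P Q : Sylow 2 Γ) : ∃ g ∈ A, g • P = Q := by
  classical
  obtain ⟨v, hv, hv0⟩ := D.exists_mem_fixV P
  obtain ⟨w, hw, hw0⟩ := D.exists_mem_fixV Q
  let ψ : A → {x : V // x ≠ 0} := fun g => ⟨(g : Γ) • v, fun h => hv0 ((smul_eq_zero_iff_eq (g : Γ)).mp h)⟩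
  have hψ : Function.Injective ψ := fun g h hgh => Subtype.ext (inv_mul_eq_one.mp (hsemi _
    (mul_mem (inv_mem h.2) g.2) v hv0
    (by rw [mul_smul, inv_smul_eq_iff]; exact congrArg Subtype.val hgh))).symm
  haveI := Fintype.ofFinite V
  have hc : Nat.card {x : V // x ≠ 0} = Nat.card V - 1 := by
    rw [Nat.card_eq_fintype_card, Nat.card_eq_fintype_card, Fintype.card_subtype_compl, Fintype.card_subtype_eq]
  haveI : Fintype A := Fintype.ofFinite A
  have hsur : Function.Surjective ψ := ((Fintype.bijective_iff_injective_and_card ψ).mpr ⟨hψ, by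
    have := Nat.card_le_card_of_injective ψ hψ
    rw [← Nat.card_eq_fintype_card, ← Nat.card_eq_fintype_card]; omega⟩).2
  obtain ⟨g, hg⟩ := hsur ⟨w, hw0⟩
  refine ⟨g, g.2, D.point_unique hw0 ?_ hw⟩
  rw [← show (g : Γ) • v = w from congrArg Subtype.val hg]
  exact smul_mem_fixV hv _

omit D in
theorem exists_generator_transitive {A : Subgroup Γ} (hA : IsCyclic A)
    (h : ∀ P Q : Sylow 2 Γ, ∃ g ∈ A, g • P = Q) : ∃ a : Γ, ∀ P Q : Sylow 2 Γ, ∃ i : ℤ, a ^ i • P = Q := by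
  obtain ⟨a, ha⟩ := hA.exists_generator
  refine ⟨a, fun P Q => ?_⟩
  obtain ⟨g, hg, hgPQ⟩ := h P Q
  obtain ⟨i, hi⟩ := mem_zpowers_iff.mp (ha ⟨g, hg⟩)
  exact ⟨i, by rw [← hgPQ, ← show (a : Γ) ^ i = g by simpa using congrArg Subtype.val hi]⟩

theorem prime_dvd_of_real_invariant {y : Γ} (hy : RealP y) (W : AddSubgroup V) (hW : ∀ v ∈ W, y • v ∈ W) :
    orderOf y ∣ Nat.card W - 1 := by
  haveI : Fact (orderOf y).Prime := ⟨hy.1⟩
  have h := card_modEq_fixed (pow_orderOf_eq_one y) W hW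
  rw [show W ⊓ fixE y = ⊥ from eq_bot_iff.mpr fun v hv =>
    (AddSubgroup.mem_bot).mpr (D.eq_zero_of_fixed hy.2.2 hy.ne_one hy.odd hv.2), AddSubgroup.card_bot] at h
  exact (Nat.modEq_iff_dvd' Nat.card_pos).mp h.symm

theorem sylow_le_centralizer {p : ℕ} [Fact p.Prime] {d : Γ} (hd : RealP d)
    (hp : p ∣ Nat.card (Sylow 2 Γ)) : ∃ Q : Sylow p Γ, (Q : Subgroup Γ) ≤ centralizer ({d} : Set Γ) := by
  haveI : Fact (Nat.Prime 2) := ⟨Nat.prime_two⟩
  refine Cfsg.Agent.S3933.exists_sylow_le _ fun hpd => ?_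
  obtain ⟨P⟩ : Nonempty (Sylow 2 Γ) := inferInstance
  rw [P.card_eq_index_normalizer] at hp
  exact (Fact.out : p.Prime).ne_one (Nat.eq_one_of_dvd_coprimes (D.cop d hd P) hpd hp)

omit D in
theorem dvd_card_of_dvd_sylow {p : ℕ} (hp : p ∣ Nat.card (Sylow 2 Γ)) : p ∣ Nat.card Γ := by
  haveI : Fact (Nat.Prime 2) := ⟨Nat.prime_two⟩
  obtain ⟨P⟩ : Nonempty (Sylow 2 Γ) := inferInstance
  rw [P.card_eq_index_normalizer] at hp
  exact hp.trans (Subgroup.index_dvd_card _)

/-- The general case: a primitive prime divisor of `|V| - 1`. -/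
theorem singer_primitive {e f p : ℕ} (he : 1 ≤ e) (hfe : f < e) (hf : 1 ≤ f) (hV : Nat.card V = 2 ^ (2 * e))
    (hn : Nat.card (Sylow 2 Γ) * (2 ^ f - 1) = 2 ^ (2 * e) - 1) (hns : ¬ Group.IsSolvable Γ)
    (hp : p.Prime) (hpd : p ∣ 2 ^ (2 * e) - 1) (hprim : ∀ k : ℕ, 0 < k → k < 2 * e → ¬ p ∣ 2 ^ k - 1) :
    (∃ a : Γ, ∀ P Q : Sylow 2 Γ, ∃ i : ℤ, a ^ i • P = Q) ∧ Rigid Γ V := by
  haveI : Fact p.Prime := ⟨hp⟩
  have hp2 : p ≠ 2 := by
    rintro rfl
    have h1 : 2 ∣ 2 ^ (2 * e) := dvd_pow_self 2 (by omega)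
    have := Nat.one_le_two_pow (n := 2 * e)
    omega
  have hDp : 2 * e < p := by
    have h2 : (2 : ℕ) ^ (p - 1) ≡ 1 [MOD p] := by
      rw [← Nat.totient_prime hp]
      exact Nat.ModEq.pow_totient ((Nat.coprime_primes Nat.prime_two hp).mpr hp2.symm)
    by_contra hle
    exact hprim (p - 1) (by have := hp.two_le; omega) (by omega)
      ((Nat.modEq_iff_dvd' Nat.one_le_two_pow).mp h2.symm)
  -- invariant subgroups of elements of order `p`
  have hdiv : ∀ i j : ℕ, i ≤ j → j ≤ 2 * e → (2 : ℕ) ^ j ≡ 2 ^ i [MOD p] → j = i ∨ (j = 2 * e ∧ i = 0) := by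
    intro i j hij hj h
    by_contra hne
    push Not at hne
    have h1 : p ∣ 2 ^ j - 2 ^ i := (Nat.modEq_iff_dvd' (Nat.pow_le_pow_right two_pos hij)).mp h.symm
    rw [show 2 ^ j - 2 ^ i = 2 ^ i * (2 ^ (j - i) - 1) by
      rw [Nat.mul_sub_one, ← pow_add, Nat.add_sub_cancel' hij]] at h1
    rcases hp.dvd_mul.mp h1 with h2 | h2
    · exact hp2 ((Nat.prime_dvd_prime_iff_eq hp Nat.prime_two).mp (hp.dvd_of_dvd_pow h2))
    · exact hprim (j - i) (by omega) (by omega) h2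
  have hirr : ∀ z : Γ, orderOf z = p → ∀ W : AddSubgroup V, (∀ v ∈ W, z • v ∈ W) → W = ⊥ ∨ W = ⊤ := by
    intro z hz
    have hz1 : z ^ p = 1 := by rw [← hz, pow_orderOf_eq_one]
    have hfix : fixE (V := V) z = ⊥ := by
      obtain ⟨i, hi⟩ := D.exists_card_eq (fixE z)
      have h := card_modEq_fixed hz1 (⊤ : AddSubgroup V) fun v _ => AddSubgroup.mem_top _
      rw [top_inf_eq, AddSubgroup.card_top, hV, hi] at h
      have hile : i ≤ 2 * e := (Nat.pow_le_pow_iff_right (a := 2) one_lt_two).mp (by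
        rw [← hi, ← hV]; exact Nat.card_le_card_of_injective _ Subtype.val_injective)
      rcases hdiv i (2 * e) hile le_rfl h with h1 | ⟨-, h1⟩
      · exfalso
        have htop : fixE (V := V) z = ⊤ := AddSubgroup.eq_top_of_card_eq _ (by rw [hi, hV, h1])
        have : z = 1 := eq_of_smul_eq_smul fun v : V => by
          rw [one_smul]; exact (htop ▸ AddSubgroup.mem_top v : v ∈ fixE z)
        rw [this, orderOf_one] at hz
        exact hp.ne_one hz.symm
      · exact AddSubgroup.eq_bot_of_card_eq _ (by rw [hi, h1, pow_zero])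
    intro W hW
    obtain ⟨j, hj⟩ := D.exists_card_eq W
    have h := card_modEq_fixed hz1 W hW
    rw [hfix, inf_bot_eq, AddSubgroup.card_bot, hj, ← pow_zero 2] at h
    have hjle : j ≤ 2 * e := (Nat.pow_le_pow_iff_right (a := 2) one_lt_two).mp (by
      rw [← hj, ← hV]; exact Nat.card_le_card_of_injective _ Subtype.val_injective)
    rcases hdiv 0 j (Nat.zero_le j) hjle h with h1 | ⟨h1, -⟩
    · exact Or.inl (AddSubgroup.eq_bot_of_card_eq _ (by rw [hj, h1, pow_zero]))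
    · exact Or.inr (AddSubgroup.eq_top_of_card_eq _ (by rw [hj, h1, hV]))
  have hpn : p ∣ Nat.card (Sylow 2 Γ) :=
    (hp.dvd_mul.mp (hn ▸ hpd)).resolve_right (hprim f (by omega) (by omega))
  obtain ⟨d, hd⟩ := D.exists_realP' hns
  obtain ⟨Q, hQ⟩ := D.sylow_le_centralizer hd hpn
  obtain ⟨z, hzo, hzQ, hzc⟩ := exists_central_of_dvd (dvd_card_of_dvd_sylow hpn) Q
  obtain ⟨hcyc, -⟩ := centralizer_of_irreducible D.ne (hirr z hzo)
  obtain ⟨g, k, hgk, hgd, hgQ⟩ := exists_two_normalizing hd.2.2 Q hQ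
  have hgz : g * z * g⁻¹ ≠ z := by
    intro h
    have hgA : g ∈ centralizer ({z} : Set Γ) :=
      mem_centralizer_singleton_iff.mpr (mul_inv_eq_iff_eq_mul.mp h)
    have hdA : d ∈ centralizer ({z} : Set Γ) :=
      mem_centralizer_singleton_iff.mpr (mem_centralizer_singleton_iff.mp (hQ hzQ)).symm
    letI := hcyc.commGroup
    have hgd' : g * d = d * g := congrArg Subtype.val (mul_comm (⟨g, hgA⟩ : centralizer ({z} : Set Γ)) ⟨d, hdA⟩)
    rw [hgd', mul_inv_cancel_right] at hgd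
    exact sq_ne_one_of_odd hd.ne_one hd.odd (by rw [sq]; exact eq_inv_iff_mul_eq_one.mp hgd)
  obtain ⟨c, hc, hu1, hu⟩ := exists_inverted_of_not_commute hgk hgz
  set z' := z⁻¹ * (c * z * c⁻¹) with hz'
  have hcz : c * z * c⁻¹ ∈ (Q : Subgroup Γ) :=
    (mem_normalizer_iff.mp ((zpowers_le.mpr hgQ) hc) z).mp hzQ
  have hz'o : orderOf z' = p := by
    refine (orderOf_eq_prime ?_ hu1)
    rw [hz', ((hzc _ hcz).inv_left).mul_pow, inv_pow, conj_pow]
    rw [← hzo, pow_orderOf_eq_one]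
    simp
  have hz'P : RealP z' := ⟨hz'o ▸ hp, hz'o ▸ hp2, isReal_of_inverted hu⟩
  obtain ⟨hcyc', -⟩ := centralizer_of_irreducible D.ne (hirr z' hz'o)
  refine ⟨exists_generator_transitive hcyc' fun P R => D.exists_sylow_trans hz'P P R, ?_⟩
  intro 𝓜 hconj hne hproj X hX
  rcases smul_eq_or_pow_card_le hconj hproj hX hp hzo with hfixX | hle
  · exact ((hirr z hzo _ fun v hv => smul_mem_fixV_of_smul_eq hfixX hv).resolve_left (hne X hX))
  · obtain ⟨i, hi⟩ := D.exists_card_eq (fixV (V := V) X)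
    have hi1 : 1 ≤ i := Nat.pos_of_ne_zero fun h0 => hne X hX
      (AddSubgroup.eq_bot_of_card_eq _ (by rw [hi, h0, pow_zero]))
    rw [hi, hV, ← pow_mul, Nat.pow_le_pow_iff_right one_lt_two] at hle
    have := Nat.le_mul_of_pos_left p hi1
    omega

/-- `|V| = 64`: some real element has order seven. -/
theorem exists_real_seven (hns : ¬ Group.IsSolvable Γ) (hV : Nat.card V = 2 ^ 6)
    (hn : Nat.card (Sylow 2 Γ) = 63) (hfP : ∀ P : Sylow 2 Γ, Nat.card (fixV (V := V) (P : Subgroup Γ)) = 2)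
    (hfu : ∀ u : Γ, orderOf u = 2 → Nat.card (fixE (V := V) u) = 8) :
    ∃ d : Γ, RealP d ∧ orderOf d = 7 := by
  haveI : Fact (Nat.Prime 7) := ⟨by norm_num⟩
  haveI : Fact (Nat.Prime 2) := ⟨Nat.prime_two⟩
  obtain ⟨d, hd⟩ := D.exists_realP' hns
  have hr : orderOf d = 3 ∨ orderOf d = 7 := by
    have h := D.prime_dvd_of_real_invariant hd ⊤ fun v _ => AddSubgroup.mem_top _
    rw [AddSubgroup.card_top, hV] at h
    rcases hd.1.dvd_mul.mp (show orderOf d ∣ 3 ^ 2 * 7 from h) with h1 | h1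
    · exact Or.inl ((Nat.prime_dvd_prime_iff_eq hd.1 Nat.prime_three).mp (hd.1.dvd_of_dvd_pow h1))
    · exact Or.inr ((Nat.prime_dvd_prime_iff_eq hd.1 (by norm_num)).mp h1)
  rcases hr with hd3 | hd7
  swap
  · exact ⟨d, hd, hd7⟩
  obtain ⟨Q, hQ⟩ := D.sylow_le_centralizer (p := 7) hd (hn ▸ by norm_num)
  obtain ⟨z, hzo, hzQ, hzc⟩ := exists_central_of_dvd (dvd_card_of_dvd_sylow (p := 7) (hn ▸ by norm_num)) Q
  have hz1 : z ^ 7 = 1 := by rw [← hzo, pow_orderOf_eq_one]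
  have hle6 : ∀ (W : AddSubgroup V) (j : ℕ), Nat.card W = 2 ^ j → j ≤ 6 := fun W j hj =>
    (Nat.pow_le_pow_iff_right (a := 2) one_lt_two).mp (by
      rw [← hj, ← hV]; exact Nat.card_le_card_of_injective _ Subtype.val_injective)
  have hzfix : fixE (V := V) z = ⊥ := by
    obtain ⟨i, hi⟩ := D.exists_card_eq (fixE z)
    have h7 := card_modEq_fixed hz1 (⊤ : AddSubgroup V) fun v _ => AddSubgroup.mem_top _
    rw [top_inf_eq, AddSubgroup.card_top, hV, hi] at h7
    have h3 := D.prime_dvd_of_real_invariant hd (fixE z) fun v (hv : z • v = v) => show z • d • v = d • v by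
      rw [← mul_smul, mem_centralizer_singleton_iff.mp (hQ hzQ), mul_smul, hv]
    rw [hd3, hi] at h3
    have hi6 := hle6 _ i hi
    have : i = 0 ∨ i = 6 := by
      interval_cases i <;> simp [Nat.ModEq] at h7 h3 ⊢
    rcases this with rfl | rfl
    · exact AddSubgroup.eq_bot_of_card_eq _ (by rw [hi, pow_zero])
    · exfalso
      have htop : fixE (V := V) z = ⊤ := AddSubgroup.eq_top_of_card_eq _ (by rw [hi, hV])
      have : z = 1 := eq_of_smul_eq_smul fun v : V => by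
        rw [one_smul]; exact (htop ▸ AddSubgroup.mem_top v : v ∈ fixE z)
      rw [this, orderOf_one] at hzo
      norm_num at hzo
  obtain ⟨g, k, hgk, hgd, hgQ⟩ := exists_two_normalizing hd.2.2 Q hQ
  by_cases hgz : g * z * g⁻¹ = z
  swap
  · obtain ⟨c, hc, hu1, hu⟩ := exists_inverted_of_not_commute hgk hgz
    have hcz : c * z * c⁻¹ ∈ (Q : Subgroup Γ) :=
      (mem_normalizer_iff.mp ((zpowers_le.mpr hgQ) hc) z).mp hzQ
    have ho : orderOf (z⁻¹ * (c * z * c⁻¹)) = 7 := orderOf_eq_prime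
      (by rw [((hzc _ hcz).inv_left).mul_pow, inv_pow, conj_pow, hz1]; simp) hu1
    exact ⟨_, ⟨ho ▸ by norm_num, ho ▸ by norm_num, isReal_of_inverted hu⟩, ho⟩
  -- an involution centralising `z`
  have hg1 : g ≠ 1 := by
    rintro rfl
    rw [one_mul, inv_one, mul_one] at hgd
    exact sq_ne_one_of_odd hd.ne_one hd.odd (by rw [sq]; exact eq_inv_iff_mul_eq_one.mp hgd)
  have h2g : 2 ∣ orderOf g := by
    obtain ⟨j, -, hj⟩ := (Nat.dvd_prime_pow Nat.prime_two).mp (orderOf_dvd_of_pow_eq_one hgk)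
    rw [hj]
    exact dvd_pow_self 2 fun h0 => hg1 (orderOf_eq_one_iff.mp (by rw [hj, h0, pow_zero]))
  set t := g ^ (orderOf g / 2) with htdef
  have ht : orderOf t = 2 := orderOf_pow_orderOf_div (orderOf_pos g).ne' h2g
  have htz : Commute t z := (show Commute g z from mul_inv_eq_iff_eq_mul.mp hgz).pow_left _
  set F := fixE (V := V) t with hF
  have hFcard : Nat.card F = 8 := hfu t ht
  have hFinv : ∀ y ∈ centralizer ({t} : Set Γ), ∀ v ∈ F, y • v ∈ F := fun y hy v hv => show t • y • v = y • v by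
    rw [← mul_smul, ← mem_centralizer_singleton_iff.mp hy, mul_smul, show t • v = v from hv]
  have hreal7 : ∀ y : Γ, IsConj y y⁻¹ → y ≠ 1 → Odd (orderOf y) → (∀ v ∈ F, y • v ∈ F) →
      ∃ d : Γ, RealP d ∧ orderOf d = 7 := by
    intro y hy hy1 hyo hyF
    obtain ⟨n, hn⟩ := exists_realP hy hy1 hyo
    have hpowF : ∀ m : ℕ, ∀ v ∈ F, y ^ m • v ∈ F := by
      intro m
      induction m with
      | zero => intro v hv; rwa [pow_zero, one_smul]
      | succ m ih => intro v hv; rw [pow_succ, mul_smul]; exact ih _ (hyF v hv)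
    have h := D.prime_dvd_of_real_invariant hn F (hpowF n)
    rw [hFcard] at h
    exact ⟨_, hn, (Nat.prime_dvd_prime_iff_eq hn.1 (by norm_num)).mp h⟩
  set Y := centralizer ({t} : Set Γ) with hY
  obtain ⟨S⟩ : Nonempty (Sylow 2 Y) := inferInstance
  by_cases hSn : (S : Subgroup Y).Normal
  swap
  · obtain ⟨y, hy1, hyo, hy⟩ := Cfsg.Agent.S3861.exists_real_odd S hSn
    exact hreal7 y (Y.subtype.map_isConj hy) (fun h => hy1 (Subtype.ext h))
      (by rwa [Subgroup.orderOf_coe]) (hFinv y y.2)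
  haveI := hSn
  have hmemS : ∀ (y : Γ) (hy : y ∈ Y) (j : ℕ), y ^ 2 ^ j = 1 → (⟨y, hy⟩ : Y) ∈ S := by
    intro y hy j hj
    obtain ⟨R, hR⟩ := exists_sylow_mem (p := 2) (c := (⟨y, hy⟩ : Y)) (k := j) (Subtype.ext (by simpa using hj))
    haveI := Sylow.unique_of_normal S hSn
    rwa [Subsingleton.elim R S] at hR
  set S' := (S : Subgroup Y).map Y.subtype with hS'
  obtain ⟨P₀, hP₀⟩ := (S.isPGroup'.map Y.subtype).exists_le_sylow
  have ht2 : t ^ 2 ^ 1 = 1 := by rw [pow_one, ← ht, pow_orderOf_eq_one]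
  have htY : t ∈ Y := mem_centralizer_singleton_iff.mpr rfl
  have hzY : z ∈ Y := mem_centralizer_singleton_iff.mpr htz.symm.eq
  have hFS : F ⊓ fixV S' = F := by
    obtain ⟨v, hv, hv0⟩ := D.exists_mem_fixV P₀
    have hvF : v ∈ F ⊓ fixV S' := ⟨hv t (hP₀ ⟨_, hmemS t htY 1 ht2, rfl⟩), fun h hh => hv h (hP₀ hh)⟩
    obtain ⟨j, hj⟩ := D.exists_card_eq (F ⊓ fixV S')
    have hzinv : ∀ x ∈ F ⊓ fixV (V := V) S', z • x ∈ F ⊓ fixV S' := by
      rintro x ⟨hxF, hxS⟩
      refine ⟨hFinv z hzY x hxF, fun h hh => ?_⟩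
      obtain ⟨s, hs, rfl⟩ := hh
      have h1 := mem_fixV.mp hxS _ ⟨_, hSn.conj_mem _ hs (⟨z, hzY⟩ : Y)⁻¹, rfl⟩
      simp only [Subgroup.coe_subtype, Subgroup.coe_mul, Subgroup.coe_inv, inv_inv, mul_smul,
        inv_smul_eq_iff] at h1 ⊢
      exact h1
    have h7 := card_modEq_fixed hz1 _ hzinv
    rw [hzfix, inf_bot_eq, AddSubgroup.card_bot, hj] at h7
    have hj3 : j ≤ 3 := (Nat.pow_le_pow_iff_right (a := 2) one_lt_two).mp (by
      rw [← hj]; exact (AddSubgroup.card_le_of_le inf_le_left).trans hFcard.le)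
    have hj0 : j ≠ 0 := fun h0 => hv0 ((AddSubgroup.mem_bot).mp
      (AddSubgroup.eq_bot_of_card_eq _ (by rw [hj, h0, pow_zero]) ▸ hvF))
    have hj' : j = 3 := by interval_cases j <;> simp [Nat.ModEq] at h7 ⊢ <;> omega
    exact SetLike.coe_injective (Set.eq_of_subset_of_ncard_le inf_le_left (by
      rw [← Nat.card_coe_set_eq, ← Nat.card_coe_set_eq]
      exact ((hFcard.trans (by norm_num : (8 : ℕ) = 2 ^ 3)).trans (hj' ▸ hj).symm).le) (Set.toFinite _))
  -- every Sylow subgroup through `t` preserves `F`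
  let H : Subgroup Γ :=
    { carrier := {h | ∀ v : V, h • v ∈ F ↔ v ∈ F}
      one_mem' := fun v => by rw [one_smul]
      mul_mem' := fun {a b} ha hb v => by rw [mul_smul, ha, hb]
      inv_mem' := fun {a} ha v => by rw [← ha (a⁻¹ • v), smul_inv_smul] }
  have hPH : ∀ P : Sylow 2 Γ, t ∈ P → (P : Subgroup Γ) ≤ H := by
    intro P htP
    obtain ⟨w, hwo, hwP, hwc⟩ := exists_central_of_dvd (p := 2) (ht ▸ orderOf_dvd_natCard t) P
    have hwY : w ∈ Y := mem_centralizer_singleton_iff.mpr (hwc t htP).eq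
    have hw2 : w ^ 2 ^ 1 = 1 := by rw [pow_one, ← hwo, pow_orderOf_eq_one]
    have hFw : F = fixE w := by
      refine SetLike.coe_injective (Set.eq_of_subset_of_ncard_le (fun v hv => ?_) (by
        rw [← Nat.card_coe_set_eq, ← Nat.card_coe_set_eq]
        exact ((hfu w hwo).trans hFcard.symm).le) (Set.toFinite _))
      exact mem_fixV.mp (hFS.ge hv).2 w ⟨_, hmemS w hwY 1 hw2, rfl⟩
    intro h hh v
    rw [hFw]
    show w • h • v = h • v ↔ w • v = v
    rw [← mul_smul, (hwc h hh).eq, mul_smul]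
    exact smul_left_cancel_iff h
  obtain ⟨P₁, htP₁⟩ := exists_sylow_mem (p := 2) ht2
  have hHS : ¬ ((P₁.subtype (hPH P₁ htP₁) : Sylow 2 H) : Subgroup H).Normal := by
    intro hnorm
    haveI := Sylow.unique_of_normal _ hnorm
    have hsub : F ≤ fixV (P₁ : Subgroup Γ) := by
      intro v hv
      rcases eq_or_ne v 0 with rfl | hv0
      · exact zero_mem _
      obtain ⟨R, hR, -⟩ := D.stab v hv0
      have htR := D.mem_point ht hv0 hR hv
      rwa [← Sylow.subtype_injective (Subsingleton.elim (R.subtype (hPH R htR)) (P₁.subtype (hPH P₁ htP₁)))]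
    have := AddSubgroup.card_le_of_le hsub
    rw [hFcard, hfP] at this
    omega
  obtain ⟨y, hy1, hyo, hy⟩ := Cfsg.Agent.S3861.exists_real_odd _ hHS
  exact hreal7 y (H.subtype.map_isConj hy) (fun h => hy1 (Subtype.ext h))
    (by rwa [Subgroup.orderOf_coe]) fun v hv => (y.2 v).mpr hv

/-- `|V| = 64`. -/
theorem singer_six (hns : ¬ Group.IsSolvable Γ) (hV : Nat.card V = 2 ^ 6)
    (hn : Nat.card (Sylow 2 Γ) = 63) (hfP : ∀ P : Sylow 2 Γ, Nat.card (fixV (V := V) (P : Subgroup Γ)) = 2)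
    (hfu : ∀ u : Γ, orderOf u = 2 → Nat.card (fixE (V := V) u) = 8) :
    (∃ a : Γ, ∀ P Q : Sylow 2 Γ, ∃ i : ℤ, a ^ i • P = Q) ∧ Rigid Γ V := by
  haveI : Fact (Nat.Prime 3) := ⟨Nat.prime_three⟩
  obtain ⟨d, hd, hd7⟩ := D.exists_real_seven hns hV hn hfP hfu
  have hd1 : d ^ 7 = 1 := by rw [← hd7, pow_orderOf_eq_one]
  obtain ⟨Q, hQ⟩ := D.sylow_le_centralizer (p := 3) hd (hn ▸ by norm_num)
  obtain ⟨z, hzo, hzQ, hzc⟩ := exists_central_of_dvd (dvd_card_of_dvd_sylow (p := 3) (hn ▸ by norm_num)) Q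
  have hz1 : z ^ 3 = 1 := by rw [← hzo, pow_orderOf_eq_one]
  have hdz : Commute d z := (mem_centralizer_singleton_iff.mp (hQ hzQ)).symm
  have hle6 : ∀ (W : AddSubgroup V) (j : ℕ), Nat.card W = 2 ^ j → j ≤ 6 := fun W j hj =>
    (Nat.pow_le_pow_iff_right (a := 2) one_lt_two).mp (by
      rw [← hj, ← hV]; exact Nat.card_le_card_of_injective _ Subtype.val_injective)
  have hzfix : fixE (V := V) z = ⊥ := by
    obtain ⟨i, hi⟩ := D.exists_card_eq (fixE z)
    have h3 := card_modEq_fixed hz1 (⊤ : AddSubgroup V) fun v _ => AddSubgroup.mem_top _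
    rw [top_inf_eq, AddSubgroup.card_top, hV, hi] at h3
    have h7 := D.prime_dvd_of_real_invariant hd (fixE z) fun v (hv : z • v = v) => show z • d • v = d • v by
      rw [← mul_smul, ← hdz.eq, mul_smul, hv]
    rw [hd7, hi] at h7
    have hi6 := hle6 _ i hi
    have : i = 0 ∨ i = 6 := by
      interval_cases i <;> simp [Nat.ModEq] at h7 h3 ⊢
    rcases this with rfl | rfl
    · exact AddSubgroup.eq_bot_of_card_eq _ (by rw [hi, pow_zero])
    · exfalso
      have htop : fixE (V := V) z = ⊤ := AddSubgroup.eq_top_of_card_eq _ (by rw [hi, hV])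
      have : z = 1 := eq_of_smul_eq_smul fun v : V => by
        rw [one_smul]; exact (htop ▸ AddSubgroup.mem_top v : v ∈ fixE z)
      rw [this, orderOf_one] at hzo
      norm_num at hzo
  have hwd : (d * z) ^ 15 = d := by
    rw [hdz.mul_pow, show (15 : ℕ) = 7 * 2 + 1 by norm_num, pow_succ, pow_mul, hd1, one_pow, one_mul,
      show (7 * 2 + 1 : ℕ) = 3 * 5 by norm_num, pow_mul, hz1, one_pow, mul_one]
  have hwz : (d * z) ^ 7 = z := by
    rw [hdz.mul_pow, hd1, one_mul, show (7 : ℕ) = 3 * 2 + 1 by norm_num, pow_succ, pow_mul, hz1, one_pow, one_mul]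
  have hirr : ∀ W : AddSubgroup V, (∀ v ∈ W, (d * z) • v ∈ W) → W = ⊥ ∨ W = ⊤ := by
    intro W hW
    have hpowW : ∀ m : ℕ, ∀ v ∈ W, (d * z) ^ m • v ∈ W := by
      intro m
      induction m with
      | zero => intro v hv; rwa [pow_zero, one_smul]
      | succ m ih => intro v hv; rw [pow_succ, mul_smul (α := Γ)]; exact ih _ (hW v hv)
    obtain ⟨j, hj⟩ := D.exists_card_eq W
    have h7 := D.prime_dvd_of_real_invariant hd W fun v hv => hwd ▸ hpowW 15 v hv
    have h3 := card_modEq_fixed hz1 W fun v hv => hwz ▸ hpowW 7 v hv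
    rw [hzfix, inf_bot_eq, AddSubgroup.card_bot, hj] at h3
    rw [hd7, hj] at h7
    have hj6 := hle6 _ j hj
    have : j = 0 ∨ j = 6 := by
      interval_cases j <;> simp [Nat.ModEq] at h7 h3 ⊢
    rcases this with rfl | rfl
    · exact Or.inl (AddSubgroup.eq_bot_of_card_eq _ (by rw [hj, pow_zero]))
    · exact Or.inr (AddSubgroup.eq_top_of_card_eq _ (by rw [hj, hV]))
  obtain ⟨hcyc, hsemi⟩ := centralizer_of_irreducible D.ne hirr
  set A := centralizer ({d * z} : Set Γ) with hA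
  have hQA : (Q : Subgroup Γ) ≤ A := fun y hy => mem_centralizer_singleton_iff.mpr
    (((show Commute y d from mem_centralizer_singleton_iff.mp (hQ hy)).mul_right (hzc y hy).symm).eq)
  have hdA : d ∈ A := mem_centralizer_singleton_iff.mpr ((Commute.refl d).mul_right hdz).eq
  have hcardA : Nat.card V - 1 ≤ Nat.card A := by
    have h9 : 9 ∣ Nat.card Γ := dvd_card_of_dvd_sylow (hn ▸ by norm_num)
    have h9A : 9 ∣ Nat.card A := by
      refine dvd_trans ?_ (Subgroup.card_dvd_of_le hQA)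
      rw [Q.card_eq_multiplicity, show (9 : ℕ) = 3 ^ 2 by norm_num]
      exact pow_dvd_pow 3 ((Nat.prime_three.pow_dvd_iff_le_factorization Nat.card_pos.ne').mp h9)
    have h7A : 7 ∣ Nat.card A := by
      refine hd7 ▸ ?_
      rw [← Nat.card_zpowers]
      exact Subgroup.card_dvd_of_le (zpowers_le.mpr hdA)
    rw [hV]
    exact Nat.le_of_dvd Nat.card_pos (Nat.Coprime.mul_dvd_of_dvd_of_dvd (by norm_num : Nat.Coprime 9 7) h9A h7A)
  refine ⟨exists_generator_transitive hcyc (D.transitive_of_semiregular hsemi hcardA), ?_⟩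
  intro 𝓜 hconj hne hproj X hX
  obtain ⟨i, hi⟩ := D.exists_card_eq (fixV (V := V) X)
  have hi1 : 1 ≤ i := Nat.pos_of_ne_zero fun h0 => hne X hX
    (AddSubgroup.eq_bot_of_card_eq _ (by rw [hi, h0, pow_zero]))
  have hdX : MulAut.conj d • X = X := by
    refine (smul_eq_or_pow_card_le hconj hproj hX (by norm_num : Nat.Prime 7) hd7).resolve_right fun hle => ?_
    rw [hi, hV, ← pow_mul, Nat.pow_le_pow_iff_right one_lt_two] at hle
    omega
  have hi3 : 3 ≤ i := by
    have h7 := D.prime_dvd_of_real_invariant hd (fixV X) fun v hv => smul_mem_fixV_of_smul_eq hdX hv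
    rw [hd7, hi] at h7
    by_contra hlt
    interval_cases i <;> simp at h7
  have hzX : MulAut.conj z • X = X := by
    refine (smul_eq_or_pow_card_le hconj hproj hX Nat.prime_three hzo).resolve_right fun hle => ?_
    rw [hi, hV, ← pow_mul, Nat.pow_le_pow_iff_right one_lt_two] at hle
    omega
  exact ((hirr _ fun v hv => mul_smul d z v ▸ smul_mem_fixV_of_smul_eq hdX
    (smul_mem_fixV_of_smul_eq hzX hv)).resolve_left (hne X hX))

theorem exists_singer {e f : ℕ} (hns : ¬ Group.IsSolvable Γ) (hf : 1 ≤ f) (hfdvd : f ∣ e) (hfe : f < e)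
    (hV : Nat.card V = 2 ^ (2 * e))
    (hfP : ∀ P : Sylow 2 Γ, Nat.card (fixV (V := V) (P : Subgroup Γ)) = 2 ^ f)
    (hfu : ∀ u : Γ, orderOf u = 2 → Nat.card (fixE (V := V) u) = 2 ^ e)
    (hn : Nat.card (Sylow 2 Γ) * (2 ^ f - 1) = 2 ^ (2 * e) - 1) :
    (∃ a : Γ, ∀ P Q : Sylow 2 Γ, ∃ i : ℤ, a ^ i • P = Q) ∧ Rigid Γ V := by
  by_cases he3 : e = 3
  · subst he3
    obtain rfl : f = 1 := by interval_cases f <;> omega
    exact D.singer_six hns hV (by simpa using hn) (by simpa using hfP) (by simpa using hfu)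
  obtain ⟨p, hp, hpd, hprim⟩ := Cfsg.Agent.S2904.result 2 (2 * e) (by norm_num) (by omega)
    (by omega) (by omega)
  exact D.singer_primitive (by omega) hfe hf hV hn hns hp hpd hprim

end RealData

end Cfsg.Lib.RealClass
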