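import Cfsg.Agent.Lib.RealClass.Reduce
import Cfsg.Agent.Lib.Recog.HalfTransitive.Average
import Cfsg.Agent.Lib.Kazarin.Radical

/-!
# Separated real class sizes: an even size, and the subgroup generated by the `2`-elements
-/

set_option autoImplicit false
set_option linter.style.haveILetI false
set_option linter.unusedSectionVars false

namespace Cfsg.Lib.RealClass

open Subgroup
open Cfsg.Lib.Recog

universe u

section Linear

variable {V : Type*} [AddCommGroup V] [Module (ZMod 2) V] {Γ : Type*} [Group Γ] [Finite Γ]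
  (ρ : Γ →* (V ≃ₗ[ZMod 2] V))

/-- In a group of odd order, two vectors with factorising stabilisers are fixed together with their sum. -/
theorem fix_of_fix_add (hodd : Odd (Nat.card Γ)) {x y : V}
    (hfac : ∀ g : Γ, ∃ h k : Γ, ρ h y = y ∧ ρ k x = x ∧ g = h * k) {g : Γ}
    (hg : ρ g (x + y) = x + y) : ρ g x = x := by
  classical
  let D : V → Submodule (ZMod 2) V := fun v => Submodule.span (ZMod 2) (Set.range fun g => ρ g v - v)
  have hD : ∀ v (g : Γ), ρ g v - v ∈ D v := fun v g => Submodule.subset_span ⟨g, rfl⟩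
  have hDinv : ∀ v (g : Γ), ∀ w ∈ D v, ρ g w ∈ D v := by
    intro v g w hw
    have hle : D v ≤ (D v).comap (ρ g).toLinearMap := Submodule.span_le.2 (by
      rintro _ ⟨h, rfl⟩
      show ρ g (ρ h v - v) ∈ D v
      rw [map_sub, ← HalfTrans.rho_mul, ← sub_sub_sub_cancel_right _ _ v]
      exact sub_mem (hD v _) (hD v _))
    exact hle hw
  have hcard : (Nat.card Γ : ZMod 2) ≠ 0 := by
    rw [(ZMod.natCast_eq_one_iff_odd).2 hodd]; exact one_ne_zero
  obtain ⟨W', hW', hinf, hsup⟩ := HalfTrans.exists_invariant_compl ρ hcard (D x ⊓ D y)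
    fun g w hw => ⟨hDinv x g w hw.1, hDinv y g w hw.2⟩
  set T := HalfTrans.stab ρ y
  haveI : Fintype T := Fintype.ofFinite T
  let E : V →ₗ[ZMod 2] V := ∑ t : T, (ρ (t : Γ)).toLinearMap
  have hE : ∀ v, E v = ∑ t : T, ρ (t : Γ) v := fun v => by simp [E, LinearMap.sum_apply]
  have hEy : ∀ v, (∀ t ∈ T, ρ t v = v) → E v = v := by
    intro v hv
    rw [hE, Finset.sum_congr rfl fun (t : T) _ => hv t t.2, Finset.sum_const, Finset.card_univ,
      ← Nat.card_eq_fintype_card, ← Nat.cast_smul_eq_nsmul (ZMod 2),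
      (ZMod.natCast_eq_one_iff_odd).2 (hodd.of_dvd_nat (card_subgroup_dvd_card T)), one_smul]
  have hEx : D x ≤ LinearMap.ker E := Submodule.span_le.2 (by
    rintro _ ⟨g, rfl⟩
    obtain ⟨h, k, hh, hk, rfl⟩ := hfac g
    show E (ρ (h * k) x - x) = 0
    rw [HalfTrans.rho_mul, hk, map_sub, sub_eq_zero, hE, hE]
    refine Fintype.sum_equiv (Equiv.mulRight (⟨h, hh⟩ : T)) _ _ fun t => ?_
    rw [Equiv.coe_mulRight, Subgroup.coe_mul, HalfTrans.rho_mul])
  obtain ⟨w, hw, w', hw', hyw⟩ := Submodule.mem_sup.1 (hsup ▸ Submodule.mem_top : y ∈ (D x ⊓ D y) ⊔ W')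
  have hw0 : w = 0 := by
    have hfix : ∀ t ∈ T, ρ t w = w := by
      intro t ht
      have h1 : ρ t w + ρ t w' = w + w' := by rw [← map_add, hyw]; exact ht
      have h2 : ρ t w - w ∈ (D x ⊓ D y) ⊓ W' := by
        refine ⟨sub_mem ⟨hDinv x t w hw.1, hDinv y t w hw.2⟩ hw, ?_⟩
        rw [show ρ t w - w = w' - ρ t w' by rw [sub_eq_sub_iff_add_eq_add, h1, add_comm]]
        exact sub_mem hw' (hW' t w' hw')
      rw [hinf, Submodule.mem_bot] at h2
      exact sub_eq_zero.1 h2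
    rw [← hEy w hfix]; exact LinearMap.mem_ker.1 (hEx hw.1)
  have hyW : y ∈ W' := by rw [← hyw, hw0, zero_add]; exact hw'
  have hDy : D y ≤ W' := Submodule.span_le.2 (by
    rintro _ ⟨g, rfl⟩; exact sub_mem (hW' g y hyW) hyW)
  have hmem : ρ g x - x ∈ (D x ⊓ D y) := by
    refine ⟨hD x g, ?_⟩
    rw [map_add] at hg
    rw [show ρ g x - x = -(ρ g y - y) by rw [neg_sub, sub_eq_sub_iff_add_eq_add, hg, add_comm]]
    exact neg_mem (hD y g)
  have h3 : ρ g x - x ∈ (D x ⊓ D y) ⊓ W' := ⟨hmem, hDy hmem.2⟩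
  rw [hinf, Submodule.mem_bot] at h3
  exact sub_eq_zero.1 h3

end Linear

variable {G : Type u} [Group G] [Finite G]

/-- Involutions central in a normal Sylow `2`-subgroup: the centraliser of a product. -/
theorem commute_of_commute_mul (P : Sylow 2 G) [(P : Subgroup G).Normal] {x y : G}
    (hxP : x ∈ (P : Subgroup G)) (hyP : y ∈ (P : Subgroup G)) (hx : x * x = 1) (hy : y * y = 1)
    (hPx : ∀ p ∈ (P : Subgroup G), Commute p x) (hPy : ∀ p ∈ (P : Subgroup G), Commute p y)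
    (hcop : (ncl y).Coprime (ncl x)) {g : G} (hg : Commute g (x * y)) : Commute g x := by
  classical
  haveI : Fact (Nat.Prime 2) := ⟨Nat.prime_two⟩
  have hconjP : ∀ (g : G), ∀ p ∈ (P : Subgroup G), g⁻¹ * p * g ∈ (P : Subgroup G) := fun g p hp => by
    simpa using Subgroup.Normal.conj_mem ‹(P : Subgroup G).Normal› p hp g⁻¹
  let Ω : Subgroup G :=
    { carrier := {z | z ∈ (P : Subgroup G) ∧ z * z = 1 ∧ ∀ p ∈ (P : Subgroup G), Commute p z}
      one_mem' := ⟨one_mem _, one_mul 1, fun p _ => Commute.one_right p⟩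
      mul_mem' := fun {a b} ha hb => ⟨mul_mem ha.1 hb.1, by
        rw [((ha.2.2 b hb.1).mul_mul_mul_comm a b), ha.2.1, hb.2.1, one_mul],
        fun p hp => (ha.2.2 p hp).mul_right (hb.2.2 p hp)⟩
      inv_mem' := fun {a} ha => ⟨inv_mem ha.1, by rw [← mul_inv_rev, ha.2.1, inv_one],
        fun p hp => (ha.2.2 p hp).inv_right⟩ }
  haveI : Ω.Normal := ⟨fun z hz g => ⟨Subgroup.Normal.conj_mem inferInstance z hz.1 g, by
    calc g * z * g⁻¹ * (g * z * g⁻¹) = g * (z * z) * g⁻¹ := by simp [mul_assoc]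
      _ = 1 := by rw [hz.2.1, mul_one, mul_inv_cancel], fun p hp => by
    have h := (hz.2.2 _ (hconjP g p hp)).eq
    have h' := congrArg (fun w => g * w * g⁻¹) h
    simpa [Commute, SemiconjBy, mul_assoc] using h'⟩⟩
  letI : CommGroup Ω := { (inferInstance : Group Ω) with
    mul_comm := fun a b => Subtype.ext (b.2.2.2 a a.2.1).eq }
  letI : Module (ZMod 2) (Additive Ω) := AddCommGroup.zmodModule (n := 2) fun v => by
    rw [two_nsmul]
    exact Additive.toMul.injective (Subtype.ext (Additive.toMul v).2.2.1)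
  let lin : G → (Additive Ω ≃ₗ[ZMod 2] Additive Ω) := fun g =>
    { (MulEquiv.toAdditive (MulAut.conjNormal g : MulAut Ω)) with
      map_smul' := fun c w => (ZMod.map_smul
        (MulEquiv.toAdditive (MulAut.conjNormal g : MulAut Ω)).toAddMonoidHom c w) }
  have hlin : ∀ (g : G) (w : Additive Ω), lin g w =
      Additive.ofMul ((MulAut.conjNormal g : MulAut Ω) (Additive.toMul w)) := fun g w => rfl
  let ρ : G →* (Additive Ω ≃ₗ[ZMod 2] Additive Ω) :=
    { toFun := lin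
      map_one' := LinearEquiv.ext fun w => by rw [hlin, map_one]; rfl
      map_mul' := fun g h => LinearEquiv.ext fun w => by
        show lin (g * h) w = lin g (lin h w)
        rw [hlin, hlin, hlin, map_mul]; rfl }
  have hρ : ∀ (g : G) (z : Ω), ρ g (Additive.ofMul z) = Additive.ofMul z ↔ Commute g (z : G) := by
    intro g z
    show Additive.ofMul ((MulAut.conjNormal g : MulAut Ω) z) = Additive.ofMul z ↔ _
    rw [EmbeddingLike.apply_eq_iff_eq, Subtype.ext_iff, MulAut.conjNormal_apply, mul_inv_eq_iff_eq_mul]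
    rfl
  haveI : Finite ρ.range := Finite.of_surjective ρ.rangeRestrict ρ.rangeRestrict_surjective
  have hodd : Odd (Nat.card ρ.range) := by
    have hker : (P : Subgroup G) ≤ ρ.ker := fun p hp => LinearEquiv.ext fun w =>
      (hρ p (Additive.toMul w)).2 ((Additive.toMul w).2.2.2 p hp)
    refine Odd.of_dvd_nat (Nat.odd_iff.mpr (Nat.two_dvd_ne_zero.mp P.not_dvd_index)) ?_
    rw [← Subgroup.index_ker]
    exact Subgroup.index_dvd_of_le hker
  set a : Ω := ⟨x, hxP, hx, hPx⟩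
  set b : Ω := ⟨y, hyP, hy, hPy⟩
  refine (hρ g a).1 (fix_of_fix_add ρ.range.subtype hodd (x := Additive.ofMul a) (y := Additive.ofMul b)
    ?_ (g := ρ.rangeRestrict g) ?_)
  · intro γ
    obtain ⟨g, rfl⟩ := ρ.rangeRestrict_surjective γ
    obtain ⟨h, hh, k, hk, rfl⟩ := Cfsg.Agent.S3933.exists_mul_of_coprime_index
      (centralizer ({y} : Set G)) (centralizer ({x} : Set G)) hcop g
    exact ⟨ρ.rangeRestrict h, ρ.rangeRestrict k, (hρ h b).2 (mem_centralizer_singleton_iff.mp hh),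
      (hρ k a).2 (mem_centralizer_singleton_iff.mp hk), map_mul _ _ _⟩
  · exact (hρ g (a * b)).2 hg

variable {π : Set ℕ}

theorem exists_piClass (h2 : 2 ∉ π) (hsep : Sep π G)
    (hin : ∃ x : G, IsConj x x⁻¹ ∧ ∃ p : ℕ, p.Prime ∧ p ∈ π ∧ p ∣ ncl x) :
    ∃ t : G, t * t = 1 ∧ PiClass π t := by
  obtain ⟨t, ht, p, hp, hpπ, hpd⟩ := hin
  have hpi : PiClass π t := ⟨lt_of_lt_of_le hp.one_lt (Nat.le_of_dvd (ncl_pos t) hpd),
    (hsep t ht).resolve_right fun h => h p hp hpd hpπ⟩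
  exact ⟨t, by rw [← sq]; exact sq_eq_one_of_odd_ncl ht (hpi.odd h2), hpi⟩

/-- With separated real class sizes, some real class size is even. -/
theorem exists_even (h2 : 2 ∉ π) (hsep : Sep π G)
    (hin : ∃ x : G, IsConj x x⁻¹ ∧ ∃ p : ℕ, p.Prime ∧ p ∈ π ∧ p ∣ ncl x)
    (hout : ∃ x : G, IsConj x x⁻¹ ∧ ∃ p : ℕ, p.Prime ∧ p ∉ π ∧ p ∣ ncl x) :
    ∃ x : G, IsConj x x⁻¹ ∧ 2 ∣ ncl x := by
  by_contra hne
  push Not at hne
  haveI : Fact (Nat.Prime 2) := ⟨Nat.prime_two⟩
  obtain ⟨t, htt, hpi⟩ := exists_piClass h2 hsep hin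
  obtain ⟨y, hy, q, hq, hqπ, hqd⟩ := hout
  have hoddall : ∀ x : G, IsConj x x⁻¹ → Odd (ncl x) := fun x hx =>
    Nat.odd_iff.mpr (Nat.two_dvd_ne_zero.mp (hne x hx))
  obtain ⟨P⟩ : Nonempty (Sylow 2 G) := inferInstance
  haveI hPn : (P : Subgroup G).Normal := (Cfsg.Agent.S3861.result P).1 fun x hx1 hxo hx =>
    sq_ne_one_of_odd hx1 hxo (sq_eq_one_of_odd_ncl hx (hoddall x hx))
  haveI := Sylow.unique_of_normal P hPn
  have hyy : y * y = 1 := by rw [← sq]; exact sq_eq_one_of_odd_ncl hy (hoddall y hy)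
  have hcen : ∀ x : G, x * x = 1 → x ∈ (P : Subgroup G) ∧ ∀ p ∈ (P : Subgroup G), Commute p x := by
    intro x hx
    obtain ⟨Q, hQ⟩ := exists_sylow_mem (p := 2) (c := x) (k := 1) (by rw [pow_one, sq, hx])
    obtain ⟨R, hR⟩ := Cfsg.Agent.S3933.exists_sylow_le (p := 2) (centralizer ({x} : Set G))
      (hne x (isConj_inv_of_sq hx))
    rw [Subsingleton.elim Q P] at hQ
    rw [Subsingleton.elim R P] at hR
    exact ⟨hQ, fun p hp => mem_centralizer_singleton_iff.mp (hR hp)⟩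
  obtain ⟨htP, hPt⟩ := hcen t htt
  obtain ⟨hyP, hPy⟩ := hcen y hyy
  have hyout := (hsep y hy).resolve_left fun h => hqπ (h q hq hqd)
  have hle : centralizer ({t * y} : Set G) ≤ centralizer ({t} : Set G) ⊓ centralizer ({y} : Set G) := by
    intro g hg
    have h1 : Commute g (t * y) := mem_centralizer_singleton_iff.mp hg
    have ht' := commute_of_commute_mul P htP hyP htt hyy hPt hPy (hpi.coprime hyout) h1
    have h3 : Commute g (t * (t * y)) := ht'.mul_right h1
    rw [← mul_assoc, htt, one_mul] at h3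
    exact ⟨mem_centralizer_singleton_iff.mpr ht'.eq, mem_centralizer_singleton_iff.mpr h3.eq⟩
  have hreal : IsConj (t * y) (t * y)⁻¹ := isConj_inv_of_sq (by
    rw [(hPt y hyP).mul_mul_mul_comm t y, htt, hyy, one_mul])
  obtain ⟨p, hp, hpt⟩ := Nat.exists_prime_and_dvd (n := ncl t) (by have := hpi.1; omega)
  rcases hsep _ hreal with h | h
  · exact hqπ (h q hq (hqd.trans (index_dvd_of_le (hle.trans inf_le_right))))
  · exact h p hp (hpt.trans (index_dvd_of_le (hle.trans inf_le_left))) (hpi.2 p hp hpt)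

/-- The `2`-elements. -/
def twoElts (G : Type u) [Group G] : Set G := {g : G | ∃ k : ℕ, orderOf g = 2 ^ k}

theorem mem_twoElts_of_pow {g : G} {k : ℕ} (h : g ^ 2 ^ k = 1) : g ∈ twoElts G := by
  obtain ⟨i, -, hi⟩ := (Nat.dvd_prime_pow Nat.prime_two).mp (orderOf_dvd_of_pow_eq_one h)
  exact ⟨i, hi⟩

theorem closure_twoElts_normal : (closure (twoElts G)).Normal := by
  refine ⟨fun n hn g => ?_⟩
  induction hn using Subgroup.closure_induction with
  | mem x hx =>
    obtain ⟨k, hk⟩ := hx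
    exact subset_closure ⟨k, by rw [Cfsg.Lib.Invol.orderOf_conj_eq, hk]⟩
  | one => simp
  | mul x y _ _ hx hy => simpa [mul_assoc] using mul_mem hx hy
  | inv x _ hx => simpa [mul_assoc] using inv_mem hx

theorem sylow_le_closure_twoElts (S : Sylow 2 G) : (S : Subgroup G) ≤ closure (twoElts G) := by
  haveI : Fact (Nat.Prime 2) := ⟨Nat.prime_two⟩
  intro s hs
  obtain ⟨k, hk⟩ := S.isPGroup' ⟨s, hs⟩
  exact subset_closure (mem_twoElts_of_pow (k := k) (by simpa using congrArg Subtype.val hk))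

theorem exists_normal_pgroup {N : Subgroup G} [N.Normal] (hs : Group.IsSolvable ↥N) (hN : N ≠ ⊥) :
    ∃ (U : Subgroup G) (q : ℕ), q.Prime ∧ U.Normal ∧ U ≠ ⊥ ∧ U ≤ N ∧ IsPGroup q U := by
  obtain ⟨R, hR⟩ := (Set.toFinite {R : Subgroup G | R.Normal ∧ R ≠ ⊥ ∧ R ≤ N}).exists_minimal
    ⟨N, inferInstance, hN, le_rfl⟩
  obtain ⟨hRn, hR0, hRN⟩ := hR.prop
  haveI := hRn
  haveI := hs
  haveI : Group.IsSolvable ↥R := Group.isSolvable_of_isSolvable_injective (inclusion_injective hRN)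
  haveI : Nontrivial R := (nontrivial_iff_ne_bot R).2 hR0
  have hbot : ⁅R, R⁆ = ⊥ := by
    by_contra hb
    have e := le_antisymm (commutator_le_self R)
      (hR.le_of_le ⟨inferInstance, hb, (commutator_le_self R).trans hRN⟩ (commutator_le_self R))
    refine (Group.IsSolvable.commutator_lt_top_of_nontrivial R).ne (map_injective R.subtype_injective ?_)
    rw [map_subtype_commutator, e, ← MonoidHom.range_eq_map, range_subtype]
  haveI : Group.IsNilpotent ↥R := by
    haveI : IsMulCommutative R := ⟨⟨fun a b => Subtype.ext (commutatorElement_eq_one_iff_mul_comm.mp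
      (mem_bot.mp (hbot ▸ commutator_mem_commutator a.2 b.2)))⟩⟩
    letI : CommGroup R := { (inferInstance : Group R) with mul_comm := mul_comm' }
    exact CommGroup.isNilpotent
  obtain ⟨q, hq, hd⟩ := Nat.exists_prime_and_dvd (n := Nat.card R) (by
    rw [Ne, Subgroup.card_eq_one]; exact hR0)
  haveI : Fact q.Prime := ⟨hq⟩
  obtain ⟨Q⟩ : Nonempty (Sylow q R) := inferInstance
  haveI : (Q : Subgroup R).Normal := inferInstance
  haveI := Sylow.characteristic_of_normal Q inferInstance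
  refine ⟨(Q : Subgroup R).map R.subtype, q, hq, ConjAct.normal_of_characteristic_of_normal, ?_,
    (map_subtype_le _).trans hRN, Q.isPGroup'.map _⟩
  rw [Ne, map_eq_bot_iff_of_injective _ R.subtype_injective]
  exact Q.ne_bot_of_dvd_card hd

/-- If every `p`-subgroup normalises a Sylow `2`-subgroup, the subgroup generated by the `2`-elements
of a solvable group has no `p`-chief factor. -/
theorem not_dvd_card_closure (hsol : Group.IsSolvable G) {p : ℕ} (hp : p.Prime) (hp2 : p ≠ 2)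
    (S : Sylow 2 G) {C : Subgroup G} (hCS : C ≤ normalizer ((S : Subgroup G) : Set G))
    (hC : ¬ p ∣ C.index) : ¬ p ∣ Nat.card ↥(closure (twoElts G)) := by
  intro hdvd
  haveI : Fact p.Prime := ⟨hp⟩
  haveI : Fact (Nat.Prime 2) := ⟨Nat.prime_two⟩
  haveI := hsol
  set K := closure (twoElts G) with hK
  haveI hKn : K.Normal := closure_twoElts_normal
  obtain ⟨N, hN⟩ := (Set.toFinite {N : Subgroup G | N.Normal ∧ N ≤ K ∧ p ∣ N.relIndex K}).exists_maximal
    ⟨⊥, inferInstance, bot_le, by rwa [relIndex_bot_left]⟩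
  obtain ⟨hNn, hNK, hNd⟩ := hN.prop
  haveI := hNn
  set f := QuotientGroup.mk' N with hf
  have hfs : Function.Surjective f := QuotientGroup.mk'_surjective N
  set Kb := K.map f with hKb
  haveI hKbn : Kb.Normal := hKn.map f hfs
  have hKc : Kb.comap f = K := comap_map_eq_self (by rw [hf, QuotientGroup.ker_mk']; exact hNK)
  have hrel : ∀ U : Subgroup (G ⧸ N), (U.comap f).relIndex K = U.relIndex Kb := fun U =>
    relIndex_comap U f K
  have hKd : p ∣ Nat.card Kb := by
    rw [← relIndex_bot_left, ← hrel, MonoidHom.comap_bot, hf, QuotientGroup.ker_mk']; exact hNd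
  have hKb0 : Kb ≠ ⊥ := fun h => hp.not_dvd_one (by rwa [h, card_bot] at hKd)
  haveI : Group.IsSolvable Kb := inferInstance
  obtain ⟨U, r, hr, hUn, hU0, hUK, hUr⟩ := exists_normal_pgroup (N := Kb) inferInstance hKb0
  haveI := hUn
  have hUd : ¬ p ∣ U.relIndex Kb := by
    rw [← hrel]
    intro h
    have hle : N ≤ U.comap f := (QuotientGroup.ker_mk' N).ge.trans (ker_le_comap f U)
    refine hU0 ?_
    have heq : U.comap f ≤ N := hN.le_of_ge ⟨hUn.comap f, (comap_mono hUK).trans hKc.le, h⟩ hle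
    rw [← map_comap_eq_self_of_surjective hfs U, Subgroup.map_eq_bot_iff, hf, QuotientGroup.ker_mk']
    exact heq
  haveI : Fact r.Prime := ⟨hr⟩
  obtain ⟨i, hi⟩ := IsPGroup.iff_card.mp hUr
  obtain rfl : r = p := by
    have h1 := relIndex_mul_relIndex ⊥ U Kb bot_le hUK
    rw [relIndex_bot_left, relIndex_bot_left] at h1
    rw [← h1, hi] at hKd
    exact ((Nat.prime_dvd_prime_iff_eq hp hr).1
      (hp.dvd_of_dvd_pow ((hp.dvd_mul.mp hKd).resolve_right hUd))).symm
  -- `U` normalises the image of `S`, hence centralises it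
  obtain ⟨Q, hQ⟩ := Cfsg.Agent.S3933.exists_sylow_le (p := r) C hC
  have hUQ : U ≤ (Q : Subgroup G).map f := by
    rw [← Sylow.coe_mapSurjective hfs]
    exact (Cfsg.Lib.Core.le_pCore' hUn hUr).trans (Cfsg.Lib.Core.pCore_le_sylow _)
  set Sb := (S : Subgroup G).map f with hSb
  have hcomm : ∀ u ∈ U, ∀ s ∈ Sb, Commute u s := by
    intro u hu s hs
    obtain ⟨c, hc, rfl⟩ := hUQ hu
    obtain ⟨s₀, hs₀, rfl⟩ := hs
    have h1 : f c * f s₀ * (f c)⁻¹ * (f s₀)⁻¹ ∈ Sb := by
      refine mul_mem ⟨c * s₀ * c⁻¹, (mem_normalizer_iff.mp (hCS (hQ hc)) s₀).mp hs₀, ?_⟩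
        (inv_mem ⟨s₀, hs₀, rfl⟩)
      simp
    have h2 : f c * f s₀ * (f c)⁻¹ * (f s₀)⁻¹ ∈ U := by
      rw [mul_assoc (f c), mul_assoc (f c)]
      exact mul_mem hu (hUn.conj_mem _ (inv_mem hu) (f s₀))
    have h3 := disjoint_def.mp (IsPGroup.disjoint_of_ne r 2 hp2 U Sb hUr (S.isPGroup'.map f)) h2 h1
    exact commutatorElement_eq_one_iff_mul_comm.mp h3
  have hgen : ∀ L : Subgroup (G ⧸ N), (∀ z ∈ twoElts G, f z ∈ L) → Kb ≤ L := fun L hL => by
    rw [hKb, hK, MonoidHom.map_closure, closure_le]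
    rintro _ ⟨z, hz, rfl⟩
    exact hL z hz
  have hcen : Kb ≤ centralizer (U : Set (G ⧸ N)) := by
    refine hgen _ fun z ⟨k, hk⟩ => ?_
    obtain ⟨R, hR⟩ := exists_sylow_mem (p := 2) (c := z) (k := k) (by rw [← hk, pow_orderOf_eq_one])
    obtain ⟨g, rfl⟩ := MulAction.exists_smul_eq G S R
    rw [← SetLike.mem_coe, Sylow.coe_smul] at hR
    obtain ⟨s, hs, rfl⟩ := hR
    rw [mem_centralizer_iff]
    intro u hu
    have h := (hcomm _ (hUn.conj_mem u hu (f g)⁻¹) _ ⟨s, hs, rfl⟩).eq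
    have h' := congrArg (fun w => f g * w * (f g)⁻¹) h
    simpa [MulAut.conj_apply, mul_assoc] using h'
  -- a central normal Sylow subgroup of `Kb` is trivial, as `Kb` is generated by `2`-elements
  have hUZ : U.subgroupOf Kb ≤ center Kb := fun u hu => mem_center_iff.mpr fun x =>
    Subtype.ext (mem_centralizer_iff.mp (hcen x.2) _ hu).symm
  have hm : ¬ r ∣ (center Kb).index := fun h => hUd (h.trans (index_dvd_of_le hUZ))
  obtain ⟨e, c, hc, hec⟩ : ∃ e c : ℕ, ¬ r ∣ c ∧ Nat.card (center Kb) = r ^ e * c :=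
    ⟨_, _, Nat.not_dvd_ordCompl hp Nat.card_pos.ne', (Nat.ordProj_mul_ordCompl_eq_self _ r).symm⟩
  let ψ : Kb →* center Kb := MonoidHom.mk' (fun x => MonoidHom.transferCenterPow Kb x ^ c) fun x y => by
    rw [map_mul, Commute.mul_pow (Subtype.ext (mem_center_iff.mp (MonoidHom.transferCenterPow Kb y).2 _))]
  have hψ : ∀ x : Kb, ∀ k : ℕ, orderOf x = 2 ^ k → ψ x = 1 := by
    intro x k hk
    refine orderOf_eq_one_iff.mp (Nat.eq_one_of_dvd_coprimes (a := r ^ e) (b := 2 ^ k)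
      ((Nat.coprime_primes hp Nat.prime_two).mpr hp2 |>.pow _ _) (orderOf_dvd_of_pow_eq_one ?_)
      (hk ▸ orderOf_map_dvd ψ x))
    show (MonoidHom.transferCenterPow Kb x ^ c) ^ r ^ e = 1
    rw [← pow_mul, mul_comm, ← hec, pow_card_eq_one']
  have hker : ψ.ker = ⊤ := by
    refine map_injective Kb.subtype_injective (le_antisymm (map_mono le_top) ?_)
    rw [← MonoidHom.range_eq_map, range_subtype]
    refine hgen _ fun z ⟨k, hk⟩ => ?_
    have hzK : f z ∈ Kb := mem_map_of_mem f (subset_closure ⟨k, hk⟩)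
    obtain ⟨j, -, hj⟩ := (Nat.dvd_prime_pow Nat.prime_two).mp (hk ▸ orderOf_map_dvd f z)
    exact ⟨⟨f z, hzK⟩, hψ _ j (by rw [← hj, ← Subgroup.orderOf_coe]), rfl⟩
  obtain ⟨u, hu, hu1⟩ := (bot_or_exists_ne_one U).resolve_left hU0
  have h1 : ψ ⟨u, hUK hu⟩ = 1 := by rw [← MonoidHom.mem_ker, hker]; exact mem_top _
  have h2 : u ^ ((center Kb).index * c) = 1 := by
    have := congrArg (fun w : center Kb => ((w : Kb) : G ⧸ N)) h1
    simpa [ψ, MonoidHom.transferCenterPow_apply, ← pow_mul] using this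
  obtain ⟨l, hl⟩ := hUr ⟨u, hu⟩
  refine hu1 (orderOf_eq_one_iff.mp (Nat.eq_one_of_dvd_coprimes (a := r ^ l)
    (b := (center Kb).index * c) (Nat.Coprime.pow_left l ?_)
    (orderOf_dvd_of_pow_eq_one (by simpa using congrArg Subtype.val hl)) (orderOf_dvd_of_pow_eq_one h2)))
  exact Nat.Coprime.mul_right (hp.coprime_iff_not_dvd.mpr hm) (hp.coprime_iff_not_dvd.mpr hc)

theorem mem_closure_twoElts_of_real {x : G} (hx : IsConj x x⁻¹) :
    x ∈ closure (twoElts G) ∧ ∃ c ∈ closure (twoElts G), c * x * c⁻¹ = x⁻¹ := by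
  haveI : Fact (Nat.Prime 2) := ⟨Nat.prime_two⟩
  set K := closure (twoElts G) with hK
  haveI hKn : K.Normal := closure_twoElts_normal
  obtain ⟨c, k, hc, hcx⟩ := exists_two_inverter hx
  have hcK : c ∈ K := subset_closure (mem_twoElts_of_pow hc)
  refine ⟨?_, c, hcK, hcx⟩
  have h2 : x * x ∈ K := by
    have h := mul_mem (hKn.conj_mem c hcK x) (inv_mem hcK)
    have h' : (x * c * x⁻¹) * c⁻¹ = x * x := by
      calc x * c * x⁻¹ * c⁻¹ = x * (c * x * c⁻¹)⁻¹ := by simp [mul_assoc]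
        _ = x * x := by rw [hcx, inv_inv]
    rwa [h'] at h
  obtain ⟨S⟩ : Nonempty (Sylow 2 G) := inferInstance
  have hi : Odd K.index := (Nat.odd_iff.mpr (Nat.two_dvd_ne_zero.mp S.not_dvd_index)).of_dvd_nat
    (index_dvd_of_le (sylow_le_closure_twoElts S))
  obtain ⟨j, hj⟩ := hi
  have hpow := K.pow_index_mem x
  rw [hj, pow_succ, pow_mul, sq] at hpow
  have := mul_mem (inv_mem (pow_mem h2 j)) hpow
  rwa [inv_mul_cancel_left] at this

theorem ncl_subtype_dvd (K : Subgroup G) [K.Normal] (x : K) : ncl x ∣ ncl (x : G) := by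
  have h : centralizer ({x} : Set K) = (centralizer ({(x : G)} : Set G)).subgroupOf K := by
    ext g
    rw [mem_subgroupOf, mem_centralizer_singleton_iff, mem_centralizer_singleton_iff, Subtype.ext_iff]
    rfl
  show (centralizer ({x} : Set K)).index ∣ _
  rw [h]
  exact Cfsg.Lib.Kazarin.relIndex_dvd_index' _ K

/-- The subgroup generated by the `2`-elements, when the Sylow `2`-subgroups are not normal. -/
theorem closure_twoElts_structure (h2 : 2 ∉ π) (hsep : Sep π G) (hsol : Group.IsSolvable G)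
    (hin : ∃ x : G, IsConj x x⁻¹ ∧ ∃ p : ℕ, p.Prime ∧ p ∈ π ∧ p ∣ ncl x)
    (hns : ¬ ∀ P : Sylow 2 G, (P : Subgroup G).Normal) :
    (∀ x : ↥(closure (twoElts G)), IsConj x x⁻¹ → Odd (ncl x) ∨ ∃ j : ℕ, ncl x = 2 ^ j) ∧
    (∃ x : ↥(closure (twoElts G)), IsConj x x⁻¹ ∧ 2 ∣ ncl x) ∧
    (∃ x : ↥(closure (twoElts G)), IsConj x x⁻¹ ∧ Odd (ncl x) ∧ 1 < ncl x) := by
  haveI : Fact (Nat.Prime 2) := ⟨Nat.prime_two⟩
  haveI : (closure (twoElts G)).Normal := closure_twoElts_normal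
  obtain ⟨t, htt, hpi⟩ := exists_piClass h2 hsep hin
  obtain ⟨S, -, hCS⟩ := exists_sylow_centralizer h2 hsep htt hpi
  have hSn : ¬ (S : Subgroup G).Normal := fun h => hns fun P => by
    haveI := Sylow.unique_of_normal S h
    rwa [Subsingleton.elim P S]
  refine ⟨fun x hx => ?_, ?_, ?_⟩
  · by_cases hd : 2 ∣ ncl x
    · refine Or.inr ⟨_, Nat.eq_prime_pow_of_unique_prime_dvd (ncl_pos x).ne' fun {p} hp hpd => ?_⟩
      by_contra hp2
      have hnotπ := notPi_of_two_dvd h2 hsep ((Subgroup.subtype _).map_isConj hx)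
        (hd.trans (ncl_subtype_dvd _ x)) p hp (hpd.trans (ncl_subtype_dvd _ x))
      exact not_dvd_card_closure hsol hp hp2 S hCS (fun h => hnotπ (hpi.2 p hp h))
        (hpd.trans (index_dvd_card _))
    · exact Or.inl (Nat.odd_iff.mpr (Nat.two_dvd_ne_zero.mp hd))
  · obtain ⟨y, hy1, hyo, hy⟩ := Cfsg.Agent.S3861.exists_real_odd S hSn
    obtain ⟨hyK, c, hcK, hc⟩ := mem_closure_twoElts_of_real hy
    have hr : IsConj (⟨y, hyK⟩ : closure (twoElts G)) (⟨y, hyK⟩ : closure (twoElts G))⁻¹ :=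
      isConj_iff.mpr ⟨⟨c, hcK⟩, Subtype.ext hc⟩
    exact ⟨_, hr, two_dvd_ncl hr (fun h => hy1 (congrArg Subtype.val h :))
      (by rwa [← Subgroup.orderOf_coe])⟩
  · have htK : t ∈ closure (twoElts G) :=
      subset_closure (mem_twoElts_of_pow (k := 1) (by rw [pow_one, sq, htt]))
    refine ⟨⟨t, htK⟩, isConj_inv_of_sq (Subtype.ext htt),
      (hpi.odd h2).of_dvd_nat (ncl_subtype_dvd _ _), ?_⟩
    by_contra hle
    have h1 : ncl (⟨t, htK⟩ : closure (twoElts G)) = 1 := by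
      have := ncl_pos (⟨t, htK⟩ : closure (twoElts G)); omega
    have hKC : closure (twoElts G) ≤ centralizer ({t} : Set G) := fun g hg =>
      mem_centralizer_singleton_iff.mpr
        (congrArg Subtype.val (mem_center_iff.mp (mem_center_of_ncl_eq_one h1) ⟨g, hg⟩) :)
    refine hSn ?_
    haveI : Subsingleton (Sylow 2 G) := ⟨fun P Q => by
      rw [eq_of_le_normalizer (P := S) ((sylow_le_closure_twoElts P).trans (hKC.trans hCS)),
        eq_of_le_normalizer (P := S) ((sylow_le_closure_twoElts Q).trans (hKC.trans hCS))]⟩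
    exact Sylow.normal_of_subsingleton S

end Cfsg.Lib.RealClass
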